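import Cfsg.Agent.Lib.CoprimeFix.Core
import Cfsg.Agent.Lib.BN.Basic

/-!
In a group with a split (B, N)-pair and trivial core, no non-trivial automorphism of order prime to
`p` fixes the unipotent subgroup elementwise.
-/

set_option autoImplicit false

namespace CfsgLib.CoprimeFix

open CfsgLib.BN

variable {G : Type*} [Group G] (P : Cfsg.BNPair G)

theorem inW_singleton {t : P.S} {w : Weyl P}
    (h : InW (sgen P) {i | (i : G) ∈ ({(t : G)} : Set G)} w) : w = 1 ∨ w = sgen P t := by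
  obtain ⟨l, hl, rfl⟩ := h
  induction l with
  | nil => exact Or.inl rfl
  | cons a l ih =>
    have ha : a = t := Subtype.ext (hl a List.mem_cons_self)
    subst ha
    simp only [List.map_cons, List.prod_cons]
    rcases ih (fun i hi => hl i (List.mem_cons_of_mem _ hi)) with h | h
    · exact Or.inr (by rw [h, mul_one])
    · exact Or.inl (by rw [h, sgen_sq])

/-- A minimal parabolic subgroup is `B ∪ B t B`. -/
theorem mem_parabolic_singleton {t : P.S} {g : G} (hg : g ∈ P.parabolic {(t : G)}) :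
    g ∈ P.B ∨ g ∈ cell P (sgen P t) := by
  obtain ⟨w, hw, hgw⟩ := (mem_parabolic P (Set.singleton_subset_iff.2 t.2)).1 hg
  rcases inW_singleton P hw with rfl | rfl
  · exact Or.inl ((mem_cell_one P).1 hgw)
  · exact Or.inr hgw

theorem mem_of_parabolic_inter {s t : P.S} (hst : s ≠ t) {g : G}
    (hs : g ∈ P.parabolic {(s : G)}) (ht : g ∈ P.parabolic {(t : G)}) : g ∈ P.B := by
  rcases mem_parabolic_singleton P hs with h | h
  · exact h
  rcases mem_parabolic_singleton P ht with h' | h'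
  · exact h'
  · exact absurd (sgen_inj P (eq_of_mem_cell P h h')) hst

theorem exists_decomp {w : Weyl P} {g n : G} (hn : n ∈ cell P w) (hg : g ∈ cell P w) :
    ∃ b ∈ P.B, ∃ b' ∈ P.B, g = b * n * b' := by
  obtain ⟨m, hm, rfl⟩ := exists_rep P w
  obtain ⟨a, ha, a', ha', rfl⟩ := (mem_cell_wk P hm).1 hn
  obtain ⟨c, hc, c', hc', rfl⟩ := (mem_cell_wk P hm).1 hg
  exact ⟨c * a⁻¹, mul_mem hc (inv_mem ha), a'⁻¹ * c', mul_mem (inv_mem ha') hc', by group⟩

section Cells

variable {α : MulAut G} (hB : ∀ b ∈ P.B, α b = b)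
include hB

theorem map_mem_B_iff {g : G} : α g ∈ P.B ↔ g ∈ P.B :=
  ⟨fun h => α.injective (hB _ h) ▸ h, fun h => by rwa [hB g h]⟩

/-- An automorphism fixing `B` elementwise preserves the generating double cosets. -/
theorem map_mem_cell_sgen (s : P.S) : α (s : G) ∈ cell P (sgen P s) := by
  have hsB : (s : G) ∉ P.B := S_not_mem_B P s.2
  have hsP : (s : G) ∈ P.parabolic {(s : G)} := subset_parabolic P rfl
  -- the image of the parabolic subgroup
  set M : Subgroup G := (P.parabolic {(s : G)}).map α.toMonoidHom with hMdef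
  have hBM : P.B ≤ M := fun b hb => ⟨b, B_le_parabolic P _ hb, hB b hb⟩
  have hαs : α (s : G) ∈ M := ⟨s, hsP, rfl⟩
  obtain ⟨t, htS, htM⟩ : ∃ t ∈ P.S, t ∈ M := by
    by_contra hc
    push Not at hc
    have h0 : {x | x ∈ P.S ∧ x ∈ M} = (∅ : Set G) :=
      Set.eq_empty_iff_forall_notMem.2 fun x hx => hc x hx.1 hx.2
    have h1 := eq_parabolic P hBM
    rw [h0, Cfsg.BNPair.parabolic, Subgroup.closure_empty, sup_bot_eq] at h1
    exact hsB ((map_mem_B_iff P hB).1 (h1 ▸ hαs))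
  -- pull back
  have hle : P.parabolic {(s : G)} ≤ (P.parabolic {t}).comap α.toMonoidHom := by
    set M' := (P.parabolic {t}).comap α.toMonoidHom
    have hBM' : P.B ≤ M' := fun b hb => by
      show α b ∈ P.parabolic {t}
      rw [hB b hb]
      exact B_le_parabolic P _ hb
    obtain ⟨x, hx, hxt⟩ := htM
    have hxM' : x ∈ M' := by
      show α x ∈ P.parabolic {t}
      exact (show α x = t from hxt) ▸ subset_parabolic P rfl
    rcases mem_parabolic_singleton P (t := s) hx with hxB | hxc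
    · exact absurd ((show α x = t from hxt) ▸ (hB x hxB).symm ▸ hxB) (S_not_mem_B P htS)
    obtain ⟨b, hb, b', hb', hs⟩ := exists_decomp P hxc (sgen_mem_cell P s)
    refine sup_le hBM' ((Subgroup.closure_le _).2 (Set.singleton_subset_iff.2 ?_))
    rw [SetLike.mem_coe, hs]
    exact mul_mem (mul_mem (hBM' hb) hxM') (hBM' hb')
  have hαt : α (s : G) ∈ P.parabolic {t} := hle hsP
  rcases mem_parabolic_singleton P (t := ⟨t, htS⟩) hαt with h | h
  · exact absurd ((map_mem_B_iff P hB).1 h) hsB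
  by_cases hst : s = ⟨t, htS⟩
  · rwa [← hst] at h
  exfalso
  obtain ⟨b, hb, b', hb', hbt⟩ := exists_decomp P (sgen_mem_cell P ⟨t, htS⟩) h
  -- the stabiliser of `s B` in `B` fixes `b t B` and is transitive on `B t B / B`
  have hfix : ∀ h ∈ P.B, (s : G)⁻¹ * h * s ∈ P.B → (b * t)⁻¹ * h * (b * t) ∈ P.B := by
    intro h hh hsh
    have h1 := hB _ hsh
    rw [map_mul, map_mul, map_inv, hB h hh, hbt] at h1
    have h2 : (b * t)⁻¹ * h * (b * t) = b' * ((s : G)⁻¹ * h * s) * b'⁻¹ := by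
      conv_rhs => rw [← h1]
      group
    rw [h2]
    exact mul_mem (mul_mem hb' hsh) (inv_mem hb')
  have htrans0 : ∀ c ∈ P.B, ∃ h ∈ P.B, (s : G)⁻¹ * h * s ∈ P.B ∧ ∃ d ∈ P.B, c * t = h * t * d := by
    intro c hc
    rcases P.mul_mem_union s s.2 t (P.subset htS) c hc with h1 | h1
    · obtain ⟨b₁, hb₁, b₂, hb₂, he⟩ := DoubleCoset.mem_doubleCoset.1 h1
      have hh : (s : G)⁻¹ * b₁ * s = c * t * b₂⁻¹ * t⁻¹ :=
        calc (s : G)⁻¹ * b₁ * s = (s : G)⁻¹ * (b₁ * (s * t) * b₂) * b₂⁻¹ * t⁻¹ := by group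
          _ = (s : G)⁻¹ * ((s : G) * c * t) * b₂⁻¹ * t⁻¹ := by rw [he]
          _ = _ := by group
      refine ⟨(s : G)⁻¹ * b₁ * s, ?_, ?_, b₂, hb₂, by rw [hh]; group⟩
      · refine mem_of_parabolic_inter P hst (mul_mem (mul_mem (inv_mem hsP)
          (B_le_parabolic P _ hb₁)) hsP) ?_
        rw [hh]
        exact mul_mem (mul_mem (mul_mem (B_le_parabolic P _ hc) (subset_parabolic P rfl))
          (inv_mem (B_le_parabolic P _ hb₂))) (inv_mem (subset_parabolic P rfl))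
      · have h2 := P.sq_mem s s.2
        have : (s : G)⁻¹ * ((s : G)⁻¹ * b₁ * s) * s = ((s : G) * s)⁻¹ * b₁ * ((s : G) * s) := by
          group
        rw [this]
        exact mul_mem (mul_mem (inv_mem h2) hb₁) h2
    · refine absurd ?_ hst
      have hmem : (s : G) ∈ P.parabolic {t} := by
        obtain ⟨b₁, hb₁, b₂, hb₂, he⟩ := DoubleCoset.mem_doubleCoset.1 h1
        have : (s : G) = b₁ * t * b₂ * t⁻¹ * c⁻¹ := by rw [← he]; group
        rw [this]
        exact mul_mem (mul_mem (mul_mem (mul_mem (B_le_parabolic P _ hb₁) (subset_parabolic P rfl))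
          (B_le_parabolic P _ hb₂)) (inv_mem (subset_parabolic P rfl)))
          (inv_mem (B_le_parabolic P _ hc))
      exact Subtype.ext (mem_parabolic_S P (Set.singleton_subset_iff.2 htS) s.2 hmem)
  have htrans : ∀ c ∈ P.B, (b * t)⁻¹ * (c * t) ∈ P.B := by
    intro c hc
    obtain ⟨h₀, hh₀, hs₀, d₀, hd₀, e₀⟩ := htrans0 b hb
    obtain ⟨h₁, hh₁, hs₁, d₁, hd₁, e₁⟩ := htrans0 c hc
    have k₁ := hfix h₁ hh₁ hs₁
    have k₀ := hfix h₀ hh₀ hs₀
    have : (b * t)⁻¹ * (c * t) =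
        ((b * t)⁻¹ * h₁ * (b * t)) * ((b * t)⁻¹ * h₀ * (b * t))⁻¹ * (d₀⁻¹ * d₁) :=
      calc (b * t)⁻¹ * (c * t) = (b * t)⁻¹ * (h₁ * (h₀⁻¹ * (h₀ * t * d₀) * d₀⁻¹) * d₁) := by
            rw [e₁]; group
        _ = (b * t)⁻¹ * (h₁ * (h₀⁻¹ * (b * t) * d₀⁻¹) * d₁) := by rw [e₀]
        _ = _ := by group
    rw [this]
    exact mul_mem (mul_mem k₁ (inv_mem k₀)) (mul_mem (inv_mem hd₀) hd₁)
  refine S_not_mem_B P htS (inv_mem_iff.1 (mem_of_conj_le P le_rfl (inv_mem (P.subset htS)) ?_))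
  intro c hc
  have h1 := htrans c hc
  have h2 := htrans 1 (one_mem _)
  have : t⁻¹ * c * t⁻¹⁻¹ = ((b * t)⁻¹ * (1 * t))⁻¹ * ((b * t)⁻¹ * (c * t)) := by group
  rw [this]
  exact mul_mem (inv_mem h2) h1

/-- An automorphism fixing `B` elementwise preserves every double coset of `B`. -/
theorem map_mem_cell {w : Weyl P} {g : G} (hg : g ∈ cell P w) : α g ∈ cell P w := by
  generalize hk : wlen (sgen P) w = k
  induction k using Nat.strong_induction_on generalizing w g with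
  | _ k ih =>
    by_cases h1 : w = 1
    · subst h1
      have hgB := (mem_cell_one P).1 hg
      rwa [hB g hgB]
    obtain ⟨s, v, hv, hlt⟩ := exists_first (sgen_gen P) h1
    subst hv
    obtain ⟨m, hm, hmv⟩ := exists_rep P v
    have hmc : m ∈ cell P v := hmv ▸ self_mem_cell P hm
    obtain ⟨b, hb, b', hb', rfl⟩ :=
      exists_decomp P (mul_cell_of_le' P (s := s) hlt.le hmc) hg
    obtain ⟨c, hc, c', hc', hcs⟩ :=
      exists_decomp P (sgen_mem_cell P s) (map_mem_cell_sgen P hB s)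
    have h2 := ih (wlen (sgen P) v) (hk ▸ hlt) (w := v) hmc rfl
    have h3 := mul_cell_of_le' P (s := s) hlt.le (cell_left P hc' h2)
    rw [map_mul, map_mul, map_mul, hB b hb, hB b' hb', hcs]
    rw [show b * (c * s * c' * α m) * b' = b * c * (s * (c' * α m)) * b' by group]
    exact cell_right P (cell_left P (mul_mem hb hc) h3) hb'

end Cells

/-- Every element of `B` times an element of `N` lies in `U n B`. -/
theorem exists_unip_mul {U : Subgroup G}
    (hsplit : ∀ b ∈ P.B, ∃ u ∈ U, ∃ t ∈ P.B ⊓ P.N, b = u * t) {n b : G} (hn : n ∈ P.N)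
    (hb : b ∈ P.B) : ∃ u ∈ U, ∃ c ∈ P.B, b * n = u * n * c := by
  obtain ⟨u, hu, t, ht, rfl⟩ := hsplit b hb
  exact ⟨u, hu, n⁻¹ * t * n⁻¹⁻¹, P.conj_mem n⁻¹ (inv_mem hn) t ht, by group⟩

theorem mem_of_pow_mem_of_isPGroup {p : ℕ} [Fact p.Prime] {H : Subgroup G} {u : G} {k a : ℕ}
    (hk : ¬ p ∣ k) (ha : u ^ p ^ a = 1) (h : u ^ k ∈ H) : u ∈ H := by
  have hcop : Nat.Coprime (orderOf u) k := by
    refine Nat.Coprime.coprime_dvd_left (orderOf_dvd_of_pow_eq_one ha) ?_
    exact Nat.Coprime.pow_left a ((Fact.out : p.Prime).coprime_iff_not_dvd.2 hk)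
  obtain ⟨j, hj⟩ := exists_pow_eq_self_of_coprime hcop.symm
  exact hj ▸ pow_mem h j

variable [Finite G] {p : ℕ} [Fact p.Prime] {U : Subgroup G}

/-- The data of the unipotent subgroup. -/
structure Split (p : ℕ) (U : Subgroup G) : Prop where
  le : U ≤ P.B
  conj : ∀ b ∈ P.B, ∀ u ∈ U, b * u * b⁻¹ ∈ U
  isPGroup : IsPGroup p U
  index : ¬ p ∣ U.index
  split : ∀ b ∈ P.B, ∃ u ∈ U, ∃ t ∈ P.B ⊓ P.N, b = u * t
  core : ∀ x, (∀ g : G, g⁻¹ * x * g ∈ P.B) → x = 1

variable {P}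

omit [Finite G] [Fact p.Prime] in
theorem Split.normalizer_eq (h : Split P p U) : Subgroup.normalizer (U : Set G) = P.B := by
  have hle : P.B ≤ Subgroup.normalizer (U : Set G) := by
    intro b hb
    rw [Subgroup.mem_normalizer_iff]
    refine fun u => ⟨h.conj b hb u, fun h' => ?_⟩
    simpa [mul_assoc] using h.conj b⁻¹ (inv_mem hb) _ h'
  refine le_antisymm (fun g hg => ?_) hle
  obtain ⟨w, hw⟩ := exists_cell P g
  obtain ⟨n, hn, rfl⟩ := exists_rep P w
  obtain ⟨b, hb, b', hb', rfl⟩ := (mem_cell_wk P hn).1 hw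
  have hnU : n ∈ Subgroup.normalizer (U : Set G) := by
    have := mul_mem (mul_mem (inv_mem (hle hb)) hg) (inv_mem (hle hb'))
    rwa [show b⁻¹ * (b * n * b') * b'⁻¹ = n by group] at this
  refine mul_mem (mul_mem hb (mem_of_conj_le P le_rfl hn fun c hc => ?_)) hb'
  obtain ⟨u, hu, t, ht, rfl⟩ := h.split c hc
  rw [show n * (u * t) * n⁻¹ = n * u * n⁻¹ * (n * t * n⁻¹) by group]
  exact mul_mem (h.le ((Subgroup.mem_normalizer_iff.1 hnU u).1 hu)) (P.conj_mem n hn t ht)

/-- The centraliser of `U` in `B` lies in `U`. -/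
theorem Split.mem_of_commute (h : Split P p U) {d : G} (hdB : d ∈ P.B)
    (hd : ∀ u ∈ U, d * u = u * d) : d ∈ U := by
  obtain ⟨a, m, hm, hord⟩ :=
    Nat.exists_eq_pow_mul_and_not_dvd (orderOf_pos d).ne' p (Fact.out : p.Prime).ne_one
  set d' := d ^ p ^ a with hd'
  have hd'm : d' ^ m = 1 := by rw [hd', ← pow_mul, ← hord, pow_orderOf_eq_one]
  have hd'B : d' ∈ P.B := pow_mem hdB _
  have hd'c : ∀ u ∈ U, d' * u = u * d' := fun u hu =>
    (Commute.pow_left (hd u hu : Commute d u) _).eq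
  -- the part of order prime to `p` lies in `B ∩ N`
  obtain ⟨u, hu, t, ht, he⟩ := h.split d' hd'B
  obtain ⟨c, hc⟩ : ∃ c, u ^ p ^ c = 1 := by
    obtain ⟨c, hc⟩ := h.isPGroup ⟨u, hu⟩
    exact ⟨c, congrArg Subtype.val hc⟩
  have hcomm : Commute u t := by
    have h1 : Commute d' u := hd'c u hu
    have h2 : t = u⁻¹ * d' := by rw [he, inv_mul_cancel_left]
    rw [h2]
    exact Commute.mul_right (Commute.inv_right (Commute.refl u)) h1.symm
  have hd'T : d' ∈ P.B ⊓ P.N := by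
    have hcop : Nat.Coprime (p ^ c) (orderOf d') :=
      Nat.Coprime.coprime_dvd_right (orderOf_dvd_of_pow_eq_one hd'm)
        (Nat.Coprime.pow_left c ((Fact.out : p.Prime).coprime_iff_not_dvd.2 hm))
    obtain ⟨j, hj⟩ := exists_pow_eq_self_of_coprime hcop
    have hpt : d' ^ p ^ c = t ^ p ^ c := by rw [he, hcomm.mul_pow, hc, one_mul]
    rw [← hj, hpt]
    exact pow_mem (pow_mem ht _) _
  -- and is trivial
  have h1 : d' = 1 := by
    refine h.core d' fun g => ?_
    obtain ⟨w, hw⟩ := exists_cell P g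
    obtain ⟨n, hn, rfl⟩ := exists_rep P w
    obtain ⟨b, hb, b', hb', rfl⟩ := (mem_cell_wk P hn).1 hw
    obtain ⟨v, hv, s, hs, rfl⟩ := h.split b hb
    have e : (v * s * n * b')⁻¹ * d' * (v * s * n * b') =
        b'⁻¹ * (n⁻¹ * (s⁻¹ * d' * s) * n⁻¹⁻¹) * b' :=
      calc (v * s * n * b')⁻¹ * d' * (v * s * n * b')
          = b'⁻¹ * n⁻¹ * s⁻¹ * v⁻¹ * (d' * v) * s * n * b' := by group
        _ = b'⁻¹ * n⁻¹ * s⁻¹ * v⁻¹ * (v * d') * s * n * b' := by rw [hd'c v hv]
        _ = _ := by group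
    rw [e]
    refine mul_mem (mul_mem (inv_mem hb') (P.conj_mem _ (inv_mem hn) _ ?_)) hb'
    exact mul_mem (mul_mem (inv_mem hs) hd'T) hs
  -- so `d` is a `p`-element normalising `U`
  have hdN : Subgroup.zpowers d ≤ Subgroup.normalizer (U : Set G) :=
    Subgroup.zpowers_le.2 (h.normalizer_eq ▸ hdB)
  have hdp : IsPGroup p (Subgroup.zpowers d) := by
    rintro ⟨x, hx⟩
    obtain ⟨j, rfl⟩ := Subgroup.mem_zpowers_iff.1 hx
    exact ⟨a, Subtype.ext (show (d ^ j) ^ p ^ a = 1 by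
      rw [← zpow_natCast, ← zpow_mul, mul_comm j, zpow_mul, zpow_natCast, ← hd', h1, one_zpow])⟩
  have h2 := (h.isPGroup.toSylow h.index).is_maximal'
    (IsPGroup.to_sup_of_normal_right' hdp h.isPGroup hdN) le_sup_right
  exact h2.le (Subgroup.mem_sup_left (Subgroup.mem_zpowers d))

/-- The main theorem. -/
theorem Split.rigidAt (h : Split P p U) : RigidAt p U := by
  intro α hα hfix
  have hfix' : U ≤ fixSub α := hfix
  have hpow : ∀ u ∈ U, ∃ a, u ^ p ^ a = 1 := fun u hu => by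
    obtain ⟨a, ha⟩ := h.isPGroup ⟨u, hu⟩
    exact ⟨a, congrArg Subtype.val ha⟩
  -- `B` is fixed
  have hB : ∀ b ∈ P.B, α b = b := by
    intro b hb
    have hαb : α b ∈ P.B := by
      rw [← h.normalizer_eq, Subgroup.mem_normalizer_iff]
      intro u
      constructor
      · intro hu
        have h1 := h.conj b hb u hu
        rw [← hfix _ h1, map_mul, map_mul, map_inv, hfix u hu] at h1
        exact h1
      · intro h1
        have h2 := h.conj b⁻¹ (inv_mem hb) _ h1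
        rw [inv_inv] at h2
        have h3 : α (b⁻¹ * (α b * u * (α b)⁻¹) * b) = b⁻¹ * (α b * u * (α b)⁻¹) * b := hfix _ h2
        rw [map_mul, map_mul, map_inv, hfix _ h1] at h3
        have : u = (α b)⁻¹ * (α b * u * (α b)⁻¹) * α b := by group
        rw [this, h3]
        exact h2
    have hcomm : ∀ u ∈ U, (b⁻¹ * α b) * u = u * (b⁻¹ * α b) := by
      intro u hu
      have h1 := hfix _ (h.conj b hb u hu)
      rw [map_mul, map_mul, map_inv, hfix u hu, mul_inv_eq_iff_eq_mul] at h1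
      rw [mul_assoc, h1]
      group
    have hd := h.mem_of_commute (mul_mem (inv_mem hb) hαb) hcomm
    obtain ⟨a, ha⟩ := hpow _ hd
    exact mem_fix_of_twist hα (mul_inv_cancel_left b (α b)).symm (hfix _ hd) ha
  -- every coset of `B` is fixed
  have hN : ∀ n ∈ P.N, n⁻¹ * α n ∈ P.B := by
    intro n hn
    obtain ⟨b, hb, b', hb', he⟩ :=
      exists_decomp P (self_mem_cell P hn) (map_mem_cell P hB (self_mem_cell P hn))
    obtain ⟨u, hu, c, hc, hbn⟩ := exists_unip_mul P h.split hn hb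
    rw [hbn, mul_assoc (u * n)] at he
    have hiter : ∀ j : ℕ, ∃ c ∈ P.B, (α ^ j) n = u ^ j * n * c := by
      intro j
      induction j with
      | zero => exact ⟨1, one_mem _, by simp⟩
      | succ j ih =>
        obtain ⟨c₁, hc₁, e⟩ := ih
        refine ⟨c * b' * c₁, mul_mem (mul_mem hc hb') hc₁, ?_⟩
        rw [pow_succ', MulAut.mul_apply, e, map_mul, map_mul, map_pow, hfix u hu, hB c₁ hc₁, he,
          pow_succ]
        group
    obtain ⟨c₁, hc₁, e⟩ := hiter (orderOf α)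
    rw [pow_orderOf_eq_one, MulAut.one_apply] at e
    have h1 : u ^ orderOf α ∈ (P.B.map (MulAut.conj n).toMonoidHom) := by
      refine ⟨c₁⁻¹, inv_mem hc₁, ?_⟩
      show n * c₁⁻¹ * n⁻¹ = _
      calc n * c₁⁻¹ * n⁻¹ = (u ^ orderOf α * n * c₁) * c₁⁻¹ * n⁻¹ := by rw [← e]
        _ = _ := by group
    obtain ⟨a, ha⟩ := hpow u hu
    obtain ⟨c₂, hc₂, hu2⟩ := mem_of_pow_mem_of_isPGroup hα ha h1
    have hu3 : u = n * c₂ * n⁻¹ := hu2.symm
    rw [he, hu3, show n⁻¹ * (n * c₂ * n⁻¹ * n * (c * b')) = c₂ * (c * b') by group]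
    exact mul_mem hc₂ (mul_mem hc hb')
  have hall : ∀ g : G, g⁻¹ * α g ∈ P.B := by
    intro g
    obtain ⟨w, hw⟩ := exists_cell P g
    obtain ⟨n, hn, rfl⟩ := exists_rep P w
    obtain ⟨b, hb, b', hb', rfl⟩ := (mem_cell_wk P hn).1 hw
    rw [map_mul, map_mul, hB b hb, hB b' hb',
      show (b * n * b')⁻¹ * (b * α n * b') = b'⁻¹ * (n⁻¹ * α n) * b' by group]
    exact mul_mem (mul_mem (inv_mem hb') (hN n hn)) hb'
  refine MulEquiv.ext fun x => ?_
  have h1 : x⁻¹ * α x = 1 := by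
    refine h.core _ fun g => ?_
    have := mul_mem (hall (x * g)) (inv_mem (hall g))
    rw [map_mul, show (x * g)⁻¹ * (α x * α g) * (g⁻¹ * α g)⁻¹ = g⁻¹ * (x⁻¹ * α x) * g by group]
      at this
    exact this
  exact (inv_mul_eq_one.1 h1).symm

omit [Finite G] in
/-- The core of `B` in a simple group. -/
theorem core_of_simple (P : Cfsg.BNPair G) (hG : IsSimpleGroup G) (hne : P.S.Nonempty) {x : G}
    (hx : ∀ g : G, g⁻¹ * x * g ∈ P.B) : x = 1 := by
  have hmem : x ∈ P.B.normalCore := fun g => by simpa using hx g⁻¹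
  rcases hG.eq_bot_or_eq_top_of_normal P.B.normalCore (Subgroup.normalCore_normal _) with h | h
  · rwa [h, Subgroup.mem_bot] at hmem
  · obtain ⟨s, hs⟩ := hne
    exact absurd (Subgroup.normalCore_le P.B (h ▸ Subgroup.mem_top s)) (S_not_mem_B P hs)

/-- From a split pair in the sense of the overgroup library, up to the choice of Sylow subgroup. -/
theorem Split.eq_one (h : Split P p U) {K : Type*} [Group K] [Finite K] (e : K ≃* G) (α : MulAut K)
    (hα : ¬ p ∣ orderOf α) (S : Sylow p K) (hfix : ∀ x ∈ (S : Subgroup K), α x = x) : α = 1 :=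
  eq_one_of_rigidAt e (P := h.isPGroup.toSylow h.index) h.rigidAt α hα S hfix

end CfsgLib.CoprimeFix
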