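import Mathlib.GroupTheory.Sylow
import Mathlib.GroupTheory.Subgroup.Simple

/-!
Automorphisms of order prime to `p` fixing a Sylow `p`-subgroup elementwise: generalities.
-/

set_option autoImplicit false

open scoped Pointwise

namespace CfsgLib.CoprimeFix

variable {G : Type*} [Group G] {p : ℕ}

/-- The fixed subgroup of an automorphism. -/
def fixSub (α : MulAut G) : Subgroup G where
  carrier := {x | α x = x}
  one_mem' := map_one α
  mul_mem' := fun {a b} ha hb => by simp only [Set.mem_ofPred_eq] at *; rw [map_mul, ha, hb]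
  inv_mem' := fun {a} ha => by simp only [Set.mem_ofPred_eq] at *; rw [map_inv, ha]

theorem mem_fixSub {α : MulAut G} {x : G} : x ∈ fixSub α ↔ α x = x := Iff.rfl

theorem pow_apply_of_twist {α : MulAut G} {x d : G} (hx : α x = x * d) (hd : α d = d) :
    ∀ j : ℕ, (α ^ j) x = x * d ^ j := by
  intro j
  induction j with
  | zero => simp
  | succ j ih => rw [pow_succ', MulAut.mul_apply, ih, map_mul, map_pow, hx, hd, mul_assoc, ← pow_succ']

/-- An element twisted by a fixed `p`-element is fixed. -/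
theorem mem_fix_of_twist [Fact p.Prime] {α : MulAut G} (hα : ¬ p ∣ orderOf α) {x d : G}
    (hx : α x = x * d) (hd : α d = d) {a : ℕ} (hp : d ^ p ^ a = 1) : α x = x := by
  have h1 : d ^ orderOf α = 1 := by
    have := pow_apply_of_twist hx hd (orderOf α)
    rw [pow_orderOf_eq_one, MulAut.one_apply] at this
    exact left_eq_mul.1 this
  have h2 : Nat.Coprime (orderOf α) (p ^ a) :=
    Nat.Coprime.pow_right a (((Fact.out : p.Prime).coprime_iff_not_dvd.2 hα).symm)
  have h3 : d = 1 := by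
    rw [← orderOf_eq_one_iff]
    exact Nat.dvd_one.1 (h2.gcd_eq_one ▸ Nat.dvd_gcd (orderOf_dvd_of_pow_eq_one h1)
      (orderOf_dvd_of_pow_eq_one hp))
  rw [hx, h3, mul_one]

/-- The normaliser of a fixed subgroup whose centraliser consists of fixed `p`-elements is fixed. -/
theorem normalizer_le_fix [Fact p.Prime] {α : MulAut G} (hα : ¬ p ∣ orderOf α) {R : Subgroup G}
    (hR : R ≤ fixSub α)
    (hC : ∀ d, (∀ r ∈ R, d * r = r * d) → d ∈ fixSub α ∧ ∃ a, d ^ p ^ a = 1) :
    Subgroup.normalizer (R : Set G) ≤ fixSub α := by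
  intro x hx
  have hcomm : ∀ r ∈ R, (x⁻¹ * α x) * r = r * (x⁻¹ * α x) := by
    intro r hr
    have h1 : α (x * r * x⁻¹) = x * r * x⁻¹ := hR ((Subgroup.mem_normalizer_iff.1 hx r).1 hr)
    rw [map_mul, map_mul, map_inv, (mem_fixSub.1 (hR hr) : α r = r), mul_inv_eq_iff_eq_mul] at h1
    rw [mul_assoc, h1]
    group
  obtain ⟨hd, a, ha⟩ := hC _ hcomm
  exact mem_fix_of_twist hα (mul_inv_cancel_left x (α x)).symm hd ha

/-- The same, when the centraliser lies in a fixed `p`-subgroup. -/
theorem normalizer_le_fix' [Fact p.Prime] {α : MulAut G} (hα : ¬ p ∣ orderOf α) {R S : Subgroup G}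
    (hR : R ≤ fixSub α) (hS : IsPGroup p S) (hSf : S ≤ fixSub α)
    (hC : ∀ d, (∀ r ∈ R, d * r = r * d) → d ∈ S) : Subgroup.normalizer (R : Set G) ≤ fixSub α :=
  normalizer_le_fix hα hR fun d hd => ⟨hSf (hC d hd), by
    obtain ⟨a, ha⟩ := hS ⟨d, hC d hd⟩
    exact ⟨a, congrArg Subtype.val ha⟩⟩

theorem eq_one_of_fixSub_eq_top {α : MulAut G} (h : fixSub α = ⊤) : α = 1 :=
  MulEquiv.ext fun x => mem_fixSub.1 (h.symm ▸ Subgroup.mem_top x)

/-- No non-trivial automorphism of order prime to `p` fixes the subgroup elementwise. -/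
def RigidAt (p : ℕ) (U : Subgroup G) : Prop :=
  ∀ α : MulAut G, ¬ p ∣ orderOf α → (∀ x ∈ U, α x = x) → α = 1

/-- A criterion: a fixed set of generators. -/
theorem rigidAt_of_le {U : Subgroup G} (h : ∀ α : MulAut G, ¬ p ∣ orderOf α → U ≤ fixSub α →
    fixSub α = ⊤) : RigidAt p U :=
  fun α hα hU => eq_one_of_fixSub_eq_top (h α hα hU)

/-- Transport along an isomorphism and to all Sylow subgroups. -/
theorem eq_one_of_rigidAt [Fact p.Prime] [Finite G] {K : Type*} [Group K] (e : G ≃* K)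
    {P : Sylow p K} (h : RigidAt p (P : Subgroup K)) (α : MulAut G) (hα : ¬ p ∣ orderOf α)
    (U : Sylow p G) (hfix : ∀ x ∈ (U : Subgroup G), α x = x) : α = 1 := by
  haveI : Finite K := Finite.of_equiv G e.toEquiv
  let Q : Sylow p K := U.mapSurjective (f := e.toMonoidHom) e.surjective
  obtain ⟨g, hg⟩ := MulAction.exists_smul_eq K Q P
  let f : G ≃* K := e.trans (MulAut.conj g)
  have hU : ∀ y ∈ (P : Subgroup K), f.symm y ∈ (U : Subgroup G) := by
    intro y hy
    rw [← hg] at hy
    obtain ⟨z, hz, rfl⟩ := Subgroup.mem_smul_pointwise_iff_exists _ _ _ |>.1 hy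
    obtain ⟨u, hu, rfl⟩ := hz
    have : f u = MulAut.conj g • e.toMonoidHom u := rfl
    rw [← this, MulEquiv.symm_apply_apply]
    exact hu
  have h1 := h (MulAut.congr f α) (by rwa [MulEquiv.orderOf_eq]) fun y hy => by
    show f (α (f.symm y)) = y
    rw [hfix _ (hU y hy), MulEquiv.apply_symm_apply]
  exact (MulAut.congr f).injective (h1.trans (map_one _).symm)

end CfsgLib.CoprimeFix
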