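import Cfsg.Agent.Lib.CoprimeFix.BN
import Cfsg.Agent.Lib.ChevAut.Sylow
import Cfsg.Agent.Lib.Chev.BN
import Cfsg.Agent.Lib.Chev.All
import Cfsg.Agent.Lib.TwistOut.Base
import Cfsg.Agent.Lib.TwistOut.E6
import Cfsg.Agent.Lib.TwistOut.D4
import Cfsg.Agent.Lib.ReeF4Out.BN
import Cfsg.Agent.Lib.ReeG2.Sylow
import Cfsg.Agent.Lib.ReeG2.Model

/-!
The exceptional groups of Lie type.
-/

set_option autoImplicit false
set_option maxRecDepth 4000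

namespace CfsgLib.CoprimeFix

open Cfsg.Lie

variable {G : Type*} [Group G] [Finite G] [IsSimpleGroup G] {p : ℕ} [Fact p.Prime]

theorem eq_one_of_pair {K : Type*} [Group K] [Finite K] (e : G ≃* K) (P : Cfsg.BNPair K)
    (hne : P.S.Nonempty) (U : Sylow p K) (hle : (U : Subgroup K) ≤ P.B)
    (hconj : ∀ b ∈ P.B, ∀ u ∈ (U : Subgroup K), b * u * b⁻¹ ∈ (U : Subgroup K))
    (hsplit : ∀ b ∈ P.B, ∃ u ∈ (U : Subgroup K), ∃ t ∈ P.B ⊓ P.N, b = u * t) (α : MulAut G)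
    (hα : ¬ p ∣ orderOf α) (S : Sylow p G) (hfix : ∀ x ∈ (S : Subgroup G), α x = x) : α = 1 := by
  have hK : IsSimpleGroup K := e.symm.isSimpleGroup
  exact (Split.mk (P := P) hle hconj U.isPGroup' U.not_dvd_index hsplit
    (fun _ => core_of_simple P hK hne)).eq_one e α hα S hfix

section Chev
open CfsgLib.Chev CfsgLib.ChevAut

variable {D : ChevalleyDatum} {T : Tabs} {F : Type*} [Field F] [Finite F] [CharP F p]

theorem eq_one_chev (hc : Checked D T) (hcomm : CommOne D T) (hrank : 0 < D.rank)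
    (e : G ≃* ↥(D.group F)) (α : MulAut G)
    (hα : ¬ p ∣ orderOf α) (S : Sylow p G) (hfix : ∀ x ∈ (S : Subgroup G), α x = x) : α = 1 := by
  classical
  haveI : Finite ↥(D.group F) := Finite.of_equiv G e.toEquiv
  obtain ⟨P, hB, hN, hS⟩ := exists_bnPair hc hcomm (F := F)
  obtain ⟨U, hU⟩ := sylow_pos hc hcomm (F := F) p
  refine eq_one_of_pair e P ?_ U ?_ ?_ ?_ α hα S hfix
  · rw [hS]
    exact ⟨⟨_, elN_mem_group hc (simple_lt hc hrank) 1⟩, 0, hrank, coe_elN hc (simple_lt hc hrank) 1⟩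
  · rw [hU, hB]
    exact fun x hx => pos_le_borel hc hx
  · intro b hb u hu
    rw [hB] at hb
    rw [hU] at hu ⊢
    exact borel_conj_pos hc hb hu
  · intro b hb
    rw [hB, Subgroup.mem_subgroupOf] at hb
    obtain ⟨u, hu, h, hh, e'⟩ := (mem_borel hc).1 hb
    refine ⟨⟨u, borel_le_group hc (pos_le_borel hc hu)⟩, ?_, ⟨h, diagonal_le_group hc hh⟩, ⟨?_, ?_⟩,
      Subtype.ext e'⟩
    · rw [hU]; exact hu
    · rw [hB]; exact diagonal_le_borel hc hh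
    · rw [hN]; exact (le_sup_left : D.diagonalSubgroup F ≤ D.monomialSubgroup F) hh

end Chev

section Twist
open CfsgLib.Chev CfsgLib.Twisted CfsgLib.TwistOut

variable {D : ChevalleyDatum} {T : Tabs} {Sy : TwistSym D} {H : List ℤ} {Lw : List ℕ}
variable {K : Type*} [Field K] [Finite K] [CharP K p]

theorem eq_one_twist (C : Ctx D T Sy H Lw) (φ : K ≃+* K) (hne : Sy.repNodes ≠ [])
    (e : G ≃* ↥(Tg C φ)) (α : MulAut G)
    (hα : ¬ p ∣ orderOf α) (S : Sylow p G) (hfix : ∀ x ∈ (S : Subgroup G), α x = x) : α = 1 := by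
  classical
  haveI : Finite ↥(Tg C φ) := Finite.of_equiv G e.toEquiv
  obtain ⟨P, hB, hN, hS⟩ := exists_P C φ
  obtain ⟨U, hU⟩ := sylow_U C φ p
  refine eq_one_of_pair e P ?_ U ?_ ?_ ?_ α hα S hfix
  · rw [hS]
    obtain ⟨i, l, hl⟩ := List.exists_cons_of_ne_nil hne
    have hi : i ∈ Sy.repNodes := by rw [hl]; exact List.mem_cons_self
    exact ⟨⟨_, nOrb_mem C.hc C.hS φ C.hN (mem_repNodes hi).1⟩, i, hi, rfl⟩
  · rw [hU, hB]
    exact U_le_B C φ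
  · intro b hb u hu
    rw [hB] at hb
    rw [hU] at hu ⊢
    exact B_conj_U C φ hb hu
  · intro b hb
    rw [hB] at hb
    obtain ⟨u, hu, h, hh, e'⟩ := twistB_split C.hc C.hS φ C.hO C.hN C.comm
      (b := (b : GL D.Idx K)) ⟨Subgroup.mem_subgroupOf.1 hb, b.2⟩
    have hug : u ∈ Tg C φ := by
      rw [show u = (b : GL D.Idx K) * h⁻¹ by rw [e']; group]
      exact mul_mem b.2 (inv_mem hh.2)
    refine ⟨⟨u, hug⟩, ?_, ⟨h, hh.2⟩, ⟨?_, ?_⟩, Subtype.ext e'⟩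
    · rw [hU, Subgroup.mem_subgroupOf]; exact (posUnipotent_eq C.hc (F := K)).le hu.1
    · rw [hB]; exact diagonal_le_borel C.hc hh.1
    · rw [hN]; exact (le_sup_left : D.diagonalSubgroup K ≤ D.monomialSubgroup K) hh.1

end Twist

theorem eq_one_reeF4 {K : Type*} [Field K] [Fintype K] {m : ℕ} {σ : MulAut ↥(chevF4.group K)}
    (hσ : CfsgLib.ReeF4.IsSigma m σ) (e : G ≃* ↥(CfsgLib.ReeF4.G1 K m)) (α : MulAut G)
    (hα : ¬ 2 ∣ orderOf α) (S : Sylow 2 G) (hfix : ∀ x ∈ (S : Subgroup G), α x = x) : α = 1 := by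
  classical
  haveI : Fact (Nat.Prime 2) := ⟨Nat.prime_two⟩
  haveI : Finite ↥(CfsgLib.ReeF4.G1 K m) := Finite.of_equiv G e.toEquiv
  obtain ⟨P, hP⟩ := CfsgLib.ReeF4Out.exists_hasBN hσ
  obtain ⟨U, hU⟩ := CfsgLib.ReeF4Out.sylow_U hP
  refine eq_one_of_pair e P ?_ U ?_ ?_ ?_ α hα S hfix
  · rw [hP.S]
    exact Set.range_nonempty _
  · rw [hU, hP.B]
    exact CfsgLib.ReeF4Out.U_le_B hσ
  · intro b hb u hu
    rw [hP.B] at hb
    rw [hU] at hu ⊢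
    exact CfsgLib.ReeF4Out.B_conj_U hσ hb hu
  · intro b hb
    rw [hP.B] at hb
    obtain ⟨u, hu, h, hh, e'⟩ := CfsgLib.ReeF4Out.B_split hσ hb
    refine ⟨u, hU ▸ hu, h, ⟨hP.B ▸ CfsgLib.ReeF4Out.H_le_B hσ hh, ?_⟩, e'⟩
    rw [hP.N]
    exact (le_sup_left : chevF4.diagonalSubgroup K ≤ chevF4.monomialSubgroup K)
      (Subgroup.mem_subgroupOf.1 hh)

open scoped Pointwise in
theorem eq_one_reeG2 {K : Type*} [Field K] [Fintype K] {m : ℕ} (hK : Fintype.card K = 3 ^ (2 * m + 1))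
    (e : G ≃* ↥(twistedG2 K (3 ^ m))) (α : MulAut G)
    (hα : ¬ 3 ∣ orderOf α) (S : Sylow 3 G) (hfix : ∀ x ∈ (S : Subgroup G), α x = x) : α = 1 := by
  classical
  obtain ⟨_, θ, hθ, he⟩ := CfsgLib.ReeG2.exists_theta hK
  haveI : Fact (Nat.Prime 3) := ⟨Nat.prime_three⟩
  have e' := e.trans (MulEquiv.subgroupCongr (CfsgLib.ReeG2.model hθ he))
  haveI : Finite ↥(CfsgLib.ReeG2.fixG θ) := Finite.of_equiv G e'.toEquiv
  have hU : Nat.card ↥(CfsgLib.ReeG2.Uf θ) = 3 ^ (3 * (2 * m + 1)) := by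
    rw [Nat.card_congr (Subgroup.subgroupOfEquivOfLe (show chevG2.posUnipotent K ⊓ CfsgLib.ReeG2.fixG θ ≤
      CfsgLib.ReeG2.fixG θ from inf_le_right)).toEquiv, CfsgLib.ReeG2.card_Uf hθ, hK, ← pow_mul,
      mul_comm]
  have hidx : ¬ 3 ∣ (CfsgLib.ReeG2.Uf θ).index := by
    intro hd
    have h1 := Subgroup.card_mul_index (CfsgLib.ReeG2.Uf θ)
    rw [CfsgLib.ReeG2.card_fixG hθ, hU, hK, ← pow_mul, mul_comm (2 * m + 1) 3, mul_assoc] at h1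
    rw [Nat.eq_of_mul_eq_mul_left (by positivity) h1] at hd
    have h3 : 3 ∣ 3 ^ (2 * m + 1) := dvd_pow_self 3 (by omega)
    have h4 : 1 ≤ 3 ^ (2 * m + 1) := Nat.one_le_pow _ _ (by norm_num)
    have h5 : 3 ∣ 3 ^ (3 * (2 * m + 1)) := dvd_pow_self 3 (by omega)
    rcases (Nat.prime_three.dvd_mul).1 hd with h | h <;> omega
  refine eq_one_of_pair e' (CfsgLib.ReeG2.pair hθ) (Set.singleton_nonempty _)
    ((IsPGroup.of_card hU).toSylow hidx) (CfsgLib.ReeG2.Uf_le_Bf hθ) ?_ ?_ α hα S hfix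
  · intro b hb u hu
    show b * u * b⁻¹ ∈ CfsgLib.ReeG2.Uf θ
    rw [← CfsgLib.ReeG2.conj_Uf hθ hb]
    exact Subgroup.mem_smul_pointwise_iff_exists _ _ _ |>.2 ⟨u, hu, rfl⟩
  · intro b hb
    obtain ⟨t, u, v, a, e''⟩ := (CfsgLib.ReeG2.mem_Bf hθ).1 hb
    exact ⟨CfsgLib.ReeG2.rg hθ t u v, (CfsgLib.ReeG2.mem_Uf hθ).2 ⟨t, u, v, rfl⟩,
      CfsgLib.ReeG2.hg hθ a, ⟨CfsgLib.ReeG2.hg_mem_Bf hθ a, (CfsgLib.ReeG2.mem_Nf hθ).2 ⟨a, Or.inl rfl⟩⟩,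
      Subtype.ext e''⟩

end CfsgLib.CoprimeFix
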