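import Cfsg.Agent.Lib.CoprimeFix.Core
import Cfsg.Agent.Lib.LieFusion.PSL
import Cfsg.Agent.Lib.Linear.Transvection

/-!
The linear groups in dimension at least three.
-/

set_option autoImplicit false

namespace CfsgLib.CoprimeFix

open Matrix CfsgLib.AutPSL CfsgLib.LieFusion

variable {n : ℕ} {F : Type*} [Field F] [Fintype F] {p : ℕ} [Fact p.Prime] [CharP F p]

/-- The radicals contain their centralisers in `PSL`. -/
theorem mem_radical_of_comm (hn : 3 ≤ n) (k : Fin n) (hk : (k : ℕ) + 1 < n) (A : SLg n F)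
    (hg : ∀ r ∈ (radical (F := F) k ⟨k + 1, hk⟩ rfl).map (QuotientGroup.mk' (Subgroup.center (SLg n F))),
      QuotientGroup.mk' (Subgroup.center (SLg n F)) A * r = r * QuotientGroup.mk' _ A)
    (hp : CharP F p) :
    QuotientGroup.mk' (Subgroup.center (SLg n F)) A ∈
      (radical (F := F) k ⟨k + 1, hk⟩ rfl).map (QuotientGroup.mk' _) := by
  classical
  set φ : SLg n F →* PSLg n F := QuotientGroup.mk' _ with hφ
  let a0 : Fin n := ⟨0, by omega⟩
  let last : Fin n := ⟨n - 1, by omega⟩
  have h0l : a0 < last := show (0 : ℕ) < n - 1 by omega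
  set k' : Fin n := ⟨k + 1, hk⟩
  have hcomm : ∀ {i j : Fin n}, i < j → ¬ (i = k ∧ j = k') →
      A.1 * Matrix.single i j 1 = Matrix.single i j 1 * A.1 := by
    intro i j hij hne'
    set t := SpecialLinearGroup.transvection hij.ne (1 : F)
    have h1 := hg (φ t) (Subgroup.mem_map_of_mem φ (transvection_mem_radical hij hne' 1))
    have h2 : φ (A * t * A⁻¹) = φ t := by
      rw [map_mul, map_mul, map_inv, h1, mul_inv_cancel_right]
    have ht : t ^ (p ^ 1) = 1 := by rw [pow_one]; exact transvection_pow_eq_one p hij.ne 1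
    have h3 := eq_of_mk_eq p (pow_conj_eq_one ht) ht h2
    have h4 : A.1 * t.1 = t.1 * A.1 := congrArg Subtype.val ((mul_inv_eq_iff_eq_mul (G := SLg n F)).1 h3)
    rw [sl_tr, Matrix.mul_add, Matrix.add_mul, Matrix.mul_one, Matrix.one_mul] at h4
    exact add_left_cancel h4
  have hcol : ∀ {i j : Fin n}, i < j → ¬ (i = k ∧ j = k') →
      A.1 i i = A.1 j j ∧ (∀ r, r ≠ i → A.1 r i = 0) ∧ ∀ l, l ≠ j → A.1 j l = 0 := by
    intro i j hij hne'
    have h := hcomm hij hne'
    refine ⟨?_, fun r hr => ?_, fun l hl => ?_⟩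
    · simpa using congrFun (congrFun h i) j
    · simpa [Ne.symm hr, hr] using congrFun (congrFun h r) j
    · simpa [Ne.symm hl, hl] using (congrFun (congrFun h i) l).symm
  have hkn : (k : ℕ) + 1 < n := hk
  have hlast : ∀ r : Fin n, r ≠ last → A.1 r r = A.1 last last := by
    intro r hr
    have hrl : r < last := lt_of_le_of_ne (show (r : ℕ) ≤ n - 1 by omega) hr
    by_cases h : r = k ∧ last = k'
    · obtain ⟨rfl, hl⟩ := h
      have hl' : n - 1 = (r : ℕ) + 1 := congrArg Fin.val hl
      have h0r : a0 < r := show (0 : ℕ) < r by omega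
      rw [← (hcol h0r (fun h' => h0r.ne h'.1)).1]
      exact (hcol h0l (fun h' => h0r.ne h'.1)).1
    · exact (hcol hrl h).1
  set lam := A.1 last last with hlam
  have hdiag : ∀ r, A.1 r r = lam := fun r => by
    rcases eq_or_ne r last with rfl | hr
    · rfl
    · exact hlast r hr
  have hoff : ∀ a b : Fin n, a ≠ b → A.1 a b ≠ 0 →
      (b = last ∨ (b = k ∧ k' = last)) ∧ (a = a0 ∨ (a = k' ∧ k = a0)) := by
    intro a b hab hne'
    refine ⟨?_, ?_⟩
    · by_cases hb : b = last
      · exact Or.inl hb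
      have hbl : b < last := lt_of_le_of_ne (show (b : ℕ) ≤ n - 1 by omega) hb
      by_cases h : b = k ∧ last = k'
      · exact Or.inr ⟨h.1, h.2.symm⟩
      · exact absurd ((hcol hbl h).2.1 a hab) hne'
    · by_cases ha : a = a0
      · exact Or.inl ha
      have hal : a0 < a := lt_of_le_of_ne (show (0 : ℕ) ≤ a from Nat.zero_le _) (Ne.symm ha)
      by_cases h : a0 = k ∧ a = k'
      · exact Or.inr ⟨h.2, h.1.symm⟩
      · exact absurd ((hcol hal h).2.2 b hab.symm) hne'
  have hoff' : ∀ a b : Fin n, a ≠ b → A.1 a b ≠ 0 → a < b ∧ ¬ (a = k ∧ b = k') := by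
    intro a b hab hne'
    obtain ⟨hb, ha⟩ := hoff a b hab hne'
    have hk'v : (k' : ℕ) = k + 1 := rfl
    rcases hb with hb | ⟨hb, hbl⟩ <;> rcases ha with ha | ⟨ha, hka⟩ <;> rw [ha, hb]
    · refine ⟨h0l, fun h => ?_⟩
      have e1 : (0 : ℕ) = k := congrArg Fin.val h.1
      have e2 : n - 1 = (k : ℕ) + 1 := congrArg Fin.val h.2
      omega
    · have e1 : (k : ℕ) = 0 := congrArg Fin.val hka
      refine ⟨show (k : ℕ) + 1 < n - 1 by omega, fun h => ?_⟩
      have e2 : (k : ℕ) + 1 = k := congrArg Fin.val h.1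
      omega
    · have e1 : (k : ℕ) + 1 = n - 1 := congrArg Fin.val hbl
      refine ⟨show (0 : ℕ) < k by omega, fun h => ?_⟩
      have e2 : (k : ℕ) = k + 1 := congrArg Fin.val h.2
      omega
    · have e1 : (k : ℕ) + 1 = n - 1 := congrArg Fin.val hbl
      have e2 : (k : ℕ) = 0 := congrArg Fin.val hka
      omega
  have hU : A.1.BlockTriangular id := fun a b hab => by
    by_contra hne'
    exact absurd (hoff' a b (fun h => (ne_of_lt (show b < a from hab)) h.symm) hne').1
      (not_lt.2 (le_of_lt hab))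
  have hlamn : lam ^ n = 1 := by
    have h := A.2
    rw [Matrix.det_of_isUpperTriangular (M := A.1) hU, Finset.prod_congr rfl (fun r _ => hdiag r),
      Finset.prod_const, Finset.card_univ, Fintype.card_fin] at h
    exact h
  have hlam0 : lam ≠ 0 := fun h => by
    rw [h, zero_pow (by omega)] at hlamn
    exact zero_ne_one hlamn
  let z : SLg n F := ⟨lam • (1 : Matrix (Fin n) (Fin n) F), by
    rw [Matrix.det_smul, Matrix.det_one, Fintype.card_fin, hlamn, one_mul]⟩
  have hzc : z ∈ Subgroup.center (SLg n F) := Subgroup.mem_center_iff.2 fun B => by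
    refine Subtype.ext ?_
    show B.1 * (lam • (1 : Matrix (Fin n) (Fin n) F)) = lam • (1 : Matrix (Fin n) (Fin n) F) * B.1
    rw [Matrix.mul_smul, Matrix.smul_mul, Matrix.mul_one, Matrix.one_mul]
  let B : SLg n F := ⟨lam⁻¹ • A.1, by
    rw [Matrix.det_smul, A.2, mul_one, Fintype.card_fin, inv_pow, hlamn, inv_one]⟩
  have hzB : z * B = A := by
    refine Subtype.ext ?_
    show lam • (1 : Matrix (Fin n) (Fin n) F) * (lam⁻¹ • A.1) = A.1
    rw [Matrix.smul_mul, Matrix.one_mul, smul_smul, mul_inv_cancel₀ hlam0, one_smul]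
  have hB : B ∈ radical (F := F) k k' rfl := by
    refine ⟨mem_uniTri.2 ⟨fun a b hab => ?_, fun r => ?_⟩, ?_⟩
    · show lam⁻¹ * A.1 a b = 0
      rw [hU hab, mul_zero]
    · show lam⁻¹ * A.1 r r = 1
      rw [hdiag, inv_mul_cancel₀ hlam0]
    · show lam⁻¹ * A.1 k k' = 0
      by_cases h0 : A.1 k k' = 0
      · rw [h0, mul_zero]
      · exact absurd ⟨rfl, rfl⟩ (hoff' k k' (fun h => by
          have : (k : ℕ) = k + 1 := congrArg Fin.val h
          omega) h0).2
  refine ⟨B, hB, ?_⟩
  rw [← hzB, map_mul]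
  have : φ z = 1 := (QuotientGroup.eq_one_iff z).2 hzc
  rw [this, one_mul]

/-- The linear case. -/
theorem rigidAt_psl (hn : 3 ≤ n) :
    RigidAt p ((uniTriSylow p : Sylow p (PSLg n F)) : Subgroup (PSLg n F)) := by
  refine rigidAt_of_le fun α hα hU => ?_
  rw [coe_uniTriSylow] at hU
  set φ : SLg n F →* PSLg n F := QuotientGroup.mk' _ with hφ
  set Y : Subgroup (SLg n F) := (fixSub α).comap φ
  have hup : uniTri n F ≤ Y := Subgroup.map_le_iff_le_comap.1 hU
  have hUp : IsPGroup p ↥((uniTri n F).map φ) := by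
    have := (uniTriSylow (n := n) (F := F) p).isPGroup'
    rwa [coe_uniTriSylow] at this
  have hlow : ∀ {a b : Fin n} (hab : a ≠ b), (a : ℕ) = b + 1 → ∀ c : F,
      SpecialLinearGroup.transvection hab c ∈ Y := by
    intro a b hab hab1 c
    have hb : (b : ℕ) + 1 < n := hab1 ▸ a.2
    obtain rfl : a = ⟨b + 1, hb⟩ := Fin.ext hab1
    have hRU : (radical (F := F) b ⟨b + 1, hb⟩ rfl).map φ ≤ (uniTri n F).map φ :=
      Subgroup.map_mono radical_le
    refine normalizer_le_fix' hα (hRU.trans hU) hUp hU (fun d hd => ?_) ?_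
    · obtain ⟨A, rfl⟩ := QuotientGroup.mk'_surjective _ d
      exact hRU (mem_radical_of_comm (p := p) hn b hb A hd inferInstance)
    · refine Subgroup.le_normalizer_map φ (Subgroup.mem_map_of_mem φ ?_)
      rw [Subgroup.mem_normalizer_iff]
      refine fun B => ⟨fun hB => lower_conj_mem_radical c hB hab, fun hB => ?_⟩
      have := lower_conj_mem_radical (-c) hB hab
      rw [← SpecialLinearGroup.transvection_inv, inv_inv] at this
      rwa [show (SpecialLinearGroup.transvection hab c)⁻¹ *
        (SpecialLinearGroup.transvection hab c * B * (SpecialLinearGroup.transvection hab c)⁻¹) *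
        SpecialLinearGroup.transvection hab c = B by group] at this
  have hall : ∀ (d : ℕ) {a b : Fin n} (hab : a ≠ b), (a : ℕ) = b + (d + 1) → ∀ c : F,
      SpecialLinearGroup.transvection hab c ∈ Y := by
    intro d
    induction d with
    | zero => exact fun hab h c => hlow hab h c
    | succ d ih =>
      intro a b hab h c
      let i : Fin n := ⟨b + (d + 1), by omega⟩
      have hai : a ≠ i := fun e => by simp [i, Fin.ext_iff] at e; omega
      have hib : i ≠ b := fun e => by simp [i, Fin.ext_iff] at e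
      rw [← mul_one c, ← CfsgLib.Linear.commutator_transvection_transvection hab hai hib c 1,
        commutatorElement_def]
      have h1 := hlow hai (show (a : ℕ) = b + (d + 1) + 1 by omega) c
      have h2 := ih hib rfl (1 : F)
      exact mul_mem (mul_mem (mul_mem h1 h2) (inv_mem h1)) (inv_mem h2)
  have htop : Y = ⊤ := CfsgLib.Linear.SL_eq_top_of_transvection_mem Y fun i j hij c => by
    rcases lt_or_gt_of_ne hij with h | h
    · exact hup (transvection_mem_uniTri h c)
    · exact hall ((i : ℕ) - j - 1) hij (by have : (j : ℕ) < i := h; omega) c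
  refine top_le_iff.1 fun x _ => ?_
  obtain ⟨A, rfl⟩ := QuotientGroup.mk'_surjective _ x
  exact (htop.ge (Subgroup.mem_top A) : A ∈ Y)

end CfsgLib.CoprimeFix
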