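import Cfsg.Agent.Lib.CoprimeFix.Points
import Cfsg.Agent.Lib.LieFusion.PSL
import Cfsg.Agent.Lib.Linear.ProjLine

/-!
The linear groups in dimension two, on the projective line.
-/

set_option autoImplicit false

namespace CfsgLib.CoprimeFix

open Matrix CfsgLib.AutPSL CfsgLib.LieFusion CfsgLib.Linear
open scoped LinearAlgebra.Projectivization

variable {F : Type*} [Field F] [Fintype F] {p : ℕ} [Fact p.Prime] [CharP F p]

private theorem sl_act (A : SLg 2 F) (v : Fin 2 → F) : A • v = A.1 *ᵥ v := rfl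

theorem exists_rigidAt_psl_two :
    ∃ S : Sylow p (PSLg 2 F), RigidAt p (S : Subgroup (PSLg 2 F)) := by
  classical
  haveI : Finite (PSLg 2 F) := inferInstance
  set φ : SLg 2 F →* PSLg 2 F := QuotientGroup.mk' _ with hφ
  have hφs : Function.Surjective φ := QuotientGroup.mk'_surjective _
  set ρ := MulAction.toPermHom (PSLg 2 F) (ℙ F (Fin 2 → F))
  have h01 : (0 : Fin 2) < 1 := by decide
  let t : F → SLg 2 F := fun c => SpecialLinearGroup.transvection h01.ne c
  have htm : ∀ c, (t c).1 = !![1, c; 0, 1] := fun c => by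
    rw [show (t c).1 = 1 + Matrix.single 0 1 c from sl_tr h01.ne c]
    ext i j; fin_cases i <;> fin_cases j <;> simp
  have htmem : ∀ c, t c ∈ uniTri 2 F := fun c => transvection_mem_uniTri h01 c
  set R : Subgroup (PSLg 2 F) := (uniTri 2 F).map φ with hR
  have hRp : IsPGroup p R := by
    have := (uniTriSylow (n := 2) (F := F) p).isPGroup'
    rwa [coe_uniTriSylow] at this
  have huni : ∀ A ∈ uniTri 2 F, ∃ c, A = t c := fun A hA => by
    obtain ⟨hlow, hdia⟩ := mem_uniTri.1 hA
    refine ⟨A.1 0 1, Subtype.ext ?_⟩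
    rw [htm]
    ext i j; fin_cases i <;> fin_cases j <;> simp [hdia, hlow h01]
  -- the upper triangular matrices
  have hupper : ∀ A : SLg 2 F, φ A • frameX F = frameX F → A.1 1 0 = 0 := fun A h => by
    rw [show φ A • frameX F = Projectivization.mk F (A • (![1, 0] : Fin 2 → F))
      ((smul_ne_zero_iff_ne A).2 triple_ne_zero.1) from rfl,
      Projectivization.mk_eq_mk_iff'] at h
    obtain ⟨a, ha⟩ := h
    have h1 := congrFun ha 1
    rw [sl_act] at h1
    simpa [mulVec, dotProduct, Fin.sum_univ_two] using h1.symm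
  have hconj : ∀ A : SLg 2 F, A.1 1 0 = 0 → ∀ c, A * t c * A⁻¹ = t (A.1 0 0 ^ 2 * c) := by
    intro A hA c
    rw [mul_inv_eq_iff_eq_mul]
    refine Subtype.ext ?_
    show A.1 * (t c).1 = (t _).1 * A.1
    have hd : A.1 0 0 * A.1 1 1 = 1 := by
      have := A.2
      rwa [Matrix.det_fin_two, hA, mul_zero, sub_zero] at this
    rw [htm, htm]
    ext i j; fin_cases i <;> fin_cases j <;> simp [Matrix.mul_apply, Fin.sum_univ_two, hA]
    linear_combination (-(A.1 0 0 * c)) * hd
  refine exists_rigidAt_of_points ρ (fun g hg => ?_) (fun a b => a ≠ b) (fun g x y hxy h => ?_)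
    (frameX F) (frameY F) (fun x => ?_) ?_ R hRp (fun w hw => ?_) (fun d hd => ?_) (fun g hg => ?_)
    (fun w hw hN => absurd hw.symm (by simpa using hN))
    (fun z z' hz _ _ hN _ => absurd hz.symm (by simpa using hN))
  · exact FaithfulSMul.eq_of_smul_eq_smul fun x => (hg x).trans (one_smul _ x).symm
  · exact hxy (Equiv.injective _ h)
  · have h2 := Projectivization.mk_rep x
    by_cases hx : x = frameX F
    · exact ⟨1, by rw [map_one, hx]; rfl⟩
    rw [← h2] at hx
    replace hx := (mk_ne_iff_det_ne_zero _ _).1 hx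
    set v := x.rep
    simp only [Matrix.cons_val_zero, Matrix.cons_val_one] at hx
    have hv1 : v 1 ≠ 0 := fun h0 => hx (by rw [h0]; ring)
    refine ⟨φ ⟨!![v 0, -(v 1)⁻¹; v 1, 0], by simp [Matrix.det_fin_two, hv1]⟩, ?_⟩
    rw [← h2]
    show Projectivization.mk F _ _ = _
    rw [Projectivization.mk_eq_mk_iff']
    refine ⟨1, funext fun i => ?_⟩
    show (1 : F) * v i = (_ *ᵥ ![1, 0]) i
    fin_cases i <;> simp
  · rw [ne_eq, ← ne_eq, mk_ne_iff_det_ne_zero]
    simp
  · have h2 := Projectivization.mk_rep w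
    set v := w.rep
    have hv1 : v 1 ≠ 0 := fun h0 => by
      have h := hw.symm
      rw [← h2] at h
      replace h := (mk_ne_iff_det_ne_zero _ _).1 h
      simp [show w.rep 1 = 0 from h0] at h
    refine ⟨φ (t (v 0 / v 1)), Subgroup.mem_map_of_mem φ (htmem _), ?_, ?_⟩
    · show Projectivization.mk F _ _ = _
      rw [Projectivization.mk_eq_mk_iff']
      exact ⟨1, funext fun i => by fin_cases i <;> simp [sl_act, htm]⟩
    · rw [← h2]
      show Projectivization.mk F _ _ = _
      rw [Projectivization.mk_eq_mk_iff']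
      refine ⟨(v 1)⁻¹, funext fun i => ?_⟩
      show (v 1)⁻¹ * v i = ((t _).1 *ᵥ ![0, 1]) i
      fin_cases i <;> simp [htm, hv1, div_eq_mul_inv, mul_comm]
  · -- the centraliser
    obtain ⟨A, rfl⟩ := hφs d
    have h2 : φ (A * t 1 * A⁻¹) = φ (t 1) := by
      rw [map_mul, map_mul, map_inv, hd _ (Subgroup.mem_map_of_mem φ (htmem 1)), mul_inv_cancel_right]
    have ht : (t 1) ^ (p ^ 1) = 1 := by rw [pow_one]; exact transvection_pow_eq_one p h01.ne 1
    have h3 := eq_of_mk_eq p (pow_conj_eq_one ht) ht h2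
    have h4 : A.1 * (t 1).1 = (t 1).1 * A.1 := congrArg Subtype.val ((mul_inv_eq_iff_eq_mul (G := SLg 2 F)).1 h3)
    rw [htm] at h4
    have e00 := congrFun (congrFun h4 0) 0
    have e01 := congrFun (congrFun h4 0) 1
    simp [Matrix.mul_apply, Fin.sum_univ_two] at e00 e01
    have hA10 : A.1 1 0 = 0 := e00
    have hA11 : A.1 1 1 = A.1 0 0 := by
      linear_combination -e01
    have hsq : A.1 0 0 * A.1 0 0 = 1 := by
      have := A.2
      rw [Matrix.det_fin_two, hA10, hA11] at this
      linear_combination this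
    set a := A.1 0 0 with ha
    let z : SLg 2 F := ⟨!![a, 0; 0, a], by rw [Matrix.det_fin_two]; simpa using hsq⟩
    have hzc : z ∈ Subgroup.center (SLg 2 F) := Subgroup.mem_center_iff.2 fun B => Subtype.ext (by
      show B.1 * !![a, 0; 0, a] = !![a, 0; 0, a] * B.1
      ext i j; fin_cases i <;> fin_cases j <;> simp [Matrix.mul_apply, Fin.sum_univ_two, mul_comm])
    have hA : A = z * t (a * A.1 0 1) := Subtype.ext (by
      show A.1 = !![a, 0; 0, a] * (t _).1
      rw [htm]
      ext i j; fin_cases i <;> fin_cases j <;>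
        simp [Matrix.mul_apply, Fin.sum_univ_two, hA10, hA11, ← mul_assoc, hsq, ha.symm])
    rw [hA, map_mul, (QuotientGroup.eq_one_iff z).2 hzc |> fun h => (show φ z = 1 from h), one_mul]
    exact Subgroup.mem_map_of_mem φ (htmem _)
  · obtain ⟨A, rfl⟩ := hφs g
    refine Subgroup.le_normalizer_map φ (Subgroup.mem_map_of_mem φ ?_)
    have hA := hupper A hg
    rw [Subgroup.mem_normalizer_iff]
    refine fun B => ⟨fun hB => ?_, fun hB => ?_⟩
    · obtain ⟨c, rfl⟩ := huni B hB
      rw [hconj A hA]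
      exact htmem _
    · obtain ⟨c, hc⟩ := huni _ hB
      have hA0 : A.1 0 0 ≠ 0 := fun h0 => by
        have := A.2
        rw [Matrix.det_fin_two, hA, h0] at this
        simp at this
      have h5 : B = t (c / A.1 0 0 ^ 2) := by
        have h6 : A * B * A⁻¹ = A * t (c / A.1 0 0 ^ 2) * A⁻¹ := by
          rw [hconj A hA, mul_div_cancel₀ c (pow_ne_zero _ hA0)]; exact hc
        exact mul_left_cancel (mul_right_cancel h6)
      rw [h5]
      exact htmem _

end CfsgLib.CoprimeFix
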