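import Cfsg.Agent.Lib.CoprimeFix.Points
import Cfsg.Agent.Lib.AutPOmega.SylowCentre
import Cfsg.Agent.Lib.Classical.Quad.Std

/-!
The orthogonal groups, acting on the singular points.
-/

set_option autoImplicit false
set_option linter.unusedSectionVars false

namespace CfsgLib.CoprimeFix

open QuadraticMap Module CfsgLib.Classical.Quad CfsgLib.AutPOmega

variable {F : Type*} [Field F] [Fintype F] {p : ℕ} [Fact p.Prime] [CharP F p]
variable {W : Type*} [AddCommGroup W] [Module F W] [FiniteDimensional F W]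
variable {R : QuadraticForm F W} {m : ℕ}

/-- The singular points. -/
abbrev OPt {V : Type*} [AddCommGroup V] [Module F V] (Q : QuadraticForm F V) : Type _ :=
  Quotient (CfsgLib.Classical.Quad.sameLine Q)

/-- The action on the singular points. -/
def operm {V : Type*} [AddCommGroup V] [Module F V] (Q : QuadraticForm F V) :
    siegelGroup Q →* Equiv.Perm (OPt Q) :=
  MonoidHom.mk' (fun g => Quotient.congr (singPerm Q g.1) fun a b => by
    constructor
    · rintro ⟨c, hc⟩
      exact ⟨c, show c • g.1.1 a.1 = g.1.1 b.1 by rw [← hc, map_smul]⟩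
    · rintro ⟨c, hc⟩
      exact ⟨c, g.1.1.injective (show g.1.1 (c • a.1) = g.1.1 b.1 by rw [map_smul]; exact hc)⟩)
    fun g h => Equiv.ext fun x => by
      induction x using Quotient.inductionOn with
      | h a => rfl

set_option maxHeartbeats 2000000 in
theorem exists_rigidAt_siegel (hR : NDPolar R) (hm : 3 ≤ m) :
    ∃ S : Sylow p (siegelGroup (hypForm m R) ⧸ Subgroup.center (siegelGroup (hypForm m R))),
      RigidAt p (S : Subgroup (siegelGroup (hypForm m R) ⧸ Subgroup.center (siegelGroup (hypForm m R)))) := by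
  classical
  have : Finite W := Module.finite_of_finite F
  set Q := hypForm m R with hQdef
  have hnd : NDPolar Q := ndPolar_hypForm hR m
  have P : Frame Q := frame R hm
  let i : Fin m := ⟨0, by omega⟩
  let j : Fin m := ⟨1, by omega⟩
  let k : Fin m := ⟨2, by omega⟩
  have hij : i ≠ j := by simp [i, j, Fin.ext_iff]
  have hik : i ≠ k := by simp [i, k, Fin.ext_iff]
  have hjk : j ≠ k := by simp [j, k, Fin.ext_iff]
  set e : Vm F m W := ee i with he
  set f : Vm F m W := ff i with hf
  have hQe : Q e = 0 := Q_ee i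
  have hQf : Q f = 0 := Q_ff i
  have hef : polar Q e f = 1 := by simp [he, hf, Q, polar_ff_right, ee]
  have he0 : e ≠ 0 := fun h => by rw [h, polar_zero_left] at hef; exact zero_ne_one hef
  have hf0 : f ≠ 0 := fun h => by rw [h, polar_zero_right] at hef; exact zero_ne_one hef
  set π : siegelGroup Q →* siegelGroup Q ⧸ Subgroup.center (siegelGroup Q) := QuotientGroup.mk' _ with hπ
  have hπs : Function.Surjective π := QuotientGroup.mk'_surjective _
  have hcen : Subgroup.center (siegelGroup Q) ≤ (operm Q).ker := by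
    intro g hg
    refine MonoidHom.mem_ker.2 (Equiv.ext fun x => ?_)
    induction x using Quotient.inductionOn with
    | h x =>
      rcases (mem_center_siegelGroup_iff hnd P g).1 hg with h | h
      · exact Quotient.sound ⟨1, by show (1 : F) • g.1.1 x.1 = x.1; rw [h, one_smul]⟩
      · exact Quotient.sound ⟨-1, by show (-1 : F) • g.1.1 x.1 = x.1; rw [h]; module⟩
  let ρ := QuotientGroup.lift (Subgroup.center (siegelGroup Q)) (operm Q) hcen
  let Ne' : OPt Q → OPt Q → Prop := fun a b =>
    Quotient.liftOn₂ a b (fun x y : SingVec Q => polar Q x.1 y.1 ≠ 0) (by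
      rintro x y x' y' ⟨c, hc⟩ ⟨d, hd⟩
      refine propext ?_
      have hc0 : c ≠ 0 := fun h0 => x'.2.1 (by rw [← hc, h0, zero_smul])
      have hd0 : d ≠ 0 := fun h0 => y'.2.1 (by rw [← hd, h0, zero_smul])
      simp [← hc, ← hd, hc0, hd0])
  let e₀ : SingVec Q := ⟨e, he0, hQe⟩
  let f₀ : SingVec Q := ⟨f, hf0, hQf⟩
  let U0 : Submodule F (Vm F m W) := LinearMap.ker ((polarBilin Q).flip e)
  have hU0 : ∀ x, x ∈ U0 ↔ polar Q e x = 0 := fun x => by
    rw [polar_comm]; exact Iff.rfl
  let R₀ := sgGroup hQe U0 fun x hx => (hU0 x).1 hx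
  have hR₀p : IsPGroup p R₀ := isPGroup_sgGroup p _ _ _
  have hsgm : ∀ v, polar Q e v = 0 → (⟨sg Q e v, sg_mem e v⟩ : siegelGroup Q) ∈ R₀ := fun v hv =>
    ⟨v, (hU0 v).2 hv, rfl⟩
  refine exists_rigidAt_of_points ρ ?_ Ne' ?_ (Quotient.mk _ e₀) (Quotient.mk _ f₀) ?_ ?_ (R₀.map π)
    (hR₀p.map π) ?_ ?_ ?_ ?_ ?_
  · intro g hg
    obtain ⟨g, rfl⟩ := hπs g
    refine (QuotientGroup.eq_one_iff g).2 ((mem_center_siegelGroup_iff hnd P g).2 ?_)
    refine scalar_of_fix_lines hnd P g.1 fun u hu0 hu => ?_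
    obtain ⟨c, hc⟩ := (CfsgLib.Classical.Quad.sameLine Q).symm
      (Quotient.exact (hg (Quotient.mk _ (⟨u, hu0, hu⟩ : SingVec Q))))
    exact ⟨c, hc.symm⟩
  · intro g x y hxy
    obtain ⟨g, rfl⟩ := hπs g
    induction x using Quotient.inductionOn with
    | h x => ?_
    induction y using Quotient.inductionOn with
    | h y => ?_
    show polar Q (g.1.1 x.1) (g.1.1 y.1) ≠ 0
    rwa [orth_polar]
  · intro x
    induction x using Quotient.inductionOn with
    | h x => ?_
    obtain ⟨g, hg, hge⟩ := siegelGroup_to_e₁ hnd P hQe he0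
    obtain ⟨g', hg', hge'⟩ := siegelGroup_to_e₁ hnd P x.2.2 x.2.1
    refine ⟨π (⟨g', hg'⟩⁻¹ * ⟨g, hg⟩), Quotient.sound ⟨1, ?_⟩⟩
    show (1 : F) • (g'⁻¹).1 (g.1 e) = x.1
    rw [one_smul, hge, ← hge', inv_apply_self]
  · show polar Q e f ≠ 0
    rw [hef]; exact one_ne_zero
  · intro w hw
    induction w using Quotient.inductionOn with
    | h w => ?_
    have hw' : polar Q e w.1 ≠ 0 := hw
    obtain ⟨v, hv, hz⟩ := exists_siegel_partner (z := f) (z' := (polar Q e w.1)⁻¹ • w.1) hQe hQf
      (by simp [QuadraticMap.map_smul, w.2.2]) hef (by simp [hw'])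
    rw [← sg_eq hQe hv] at hz
    refine ⟨π ⟨_, sg_mem e v⟩, Subgroup.mem_map_of_mem π (hsgm v hv), ?_, ?_⟩
    · exact Quotient.sound ⟨1, by
        show (1 : F) • (sg Q e v).1 e = e
        rw [one_smul, sg_fix hQe hv (polar_singular_self hQe) hv]⟩
    · refine Quotient.sound ⟨polar Q e w.1, ?_⟩
      show polar Q e w.1 • (sg Q e v).1 f = w.1
      rw [hz, smul_smul, mul_inv_cancel₀ hw', one_smul]
  · -- the centraliser
    intro d hd
    obtain ⟨d, rfl⟩ := hπs d
    have hcomm : ∀ v, polar Q e v = 0 → (d : Orth Q) * sg Q e v = sg Q e v * (d : Orth Q) := by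
      intro v hv
      set r : siegelGroup Q := ⟨sg Q e v, sg_mem e v⟩
      set z := r⁻¹ * (d * r * d⁻¹) with hz
      have hzc : z ∈ Subgroup.center (siegelGroup Q) := by
        refine (QuotientGroup.eq_one_iff z).1 ?_
        show π z = 1
        have hdr : π d * π r = π r * π d := hd _ (Subgroup.mem_map_of_mem π (hsgm v hv))
        rw [hz, map_mul, map_mul, map_mul, map_inv, map_inv, hdr]
        group
      have hrp : r ^ p ^ 1 = 1 := Subtype.ext (by rw [pow_one]; exact sg_pow_char p e v)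
      have hzp : z ^ p ^ 1 = 1 := by
        have h1 : (r * z) ^ p ^ 1 = 1 := by
          rw [hz, mul_inv_cancel_left, conj_pow, hrp]; group
        have hc2 : Commute r z := Subgroup.mem_center_iff.1 hzc r
        rwa [hc2.mul_pow, hrp, one_mul] at h1
      have hz1 : z = 1 := center_eq_one_of_pow hnd P p hzc hzp
      rw [hz, inv_mul_eq_one] at hz1
      exact congrArg Subtype.val (mul_inv_eq_iff_eq_mul.1 hz1.symm)
    obtain ⟨v, hv, hdv⟩ := eq_of_commute_root hR hm i j k hij hik hjk (d : Orth Q) hcomm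
    set r : siegelGroup Q := ⟨sg Q e v, sg_mem e v⟩
    have hz : r⁻¹ * d ∈ Subgroup.center (siegelGroup Q) := by
      rw [mem_center_siegelGroup_iff hnd P]
      rcases hdv with h | h
      · refine Or.inl fun x => ?_
        show ((sg Q e v)⁻¹).1 ((d : Orth Q).1 x) = x
        rw [h]
        exact inv_apply_self _ x
      · refine Or.inr fun x => ?_
        show ((sg Q e v)⁻¹).1 ((d : Orth Q).1 x) = -x
        rw [h, mul_apply, negOne_apply, map_neg, inv_apply_self]
    exact ⟨r, hsgm v hv, QuotientGroup.eq.2 hz⟩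
  · -- the stabiliser normalises the root group
    intro g hg
    obtain ⟨g, rfl⟩ := hπs g
    obtain ⟨c, hc⟩ := (CfsgLib.Classical.Quad.sameLine Q).symm (Quotient.exact hg)
    change c • e = g.1.1 e at hc
    have hc0 : c ≠ 0 := fun h0 => orth_ne_zero g.1 he0 (by rw [← hc, h0, zero_smul])
    have hle : ∀ (g : siegelGroup Q) (c : F), c • e = g.1.1 e → ∀ r ∈ R₀, g * r * g⁻¹ ∈ R₀ := by
      rintro g c hc r ⟨x, hx, hr⟩
      have hx' : polar Q e x = 0 := (hU0 x).1 hx
      by_cases hc0 : c = 0
      · exact absurd (by rw [← hc, hc0, zero_smul]) (orth_ne_zero g.1 he0)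
      have hgx : polar Q e (g.1.1 x) = 0 := by
        have h := orth_polar g.1 e x
        rw [← hc, hx', polar_smul_left, smul_eq_mul] at h
        exact (mul_eq_zero.1 h).resolve_left hc0
      refine ⟨c • g.1.1 x, U0.smul_mem _ ((hU0 _).2 hgx), ?_⟩
      rw [Subgroup.coe_mul, Subgroup.coe_mul, Subgroup.coe_inv, hr, sg_conj, ← hc,
        sg_smul_left c hQe hgx]
    refine Subgroup.le_normalizer_map π (Subgroup.mem_map_of_mem π ?_)
    rw [Subgroup.mem_normalizer_iff]
    refine fun r => ⟨hle g c hc r, fun h => ?_⟩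
    have h2 := hle g⁻¹ c⁻¹ (by
      show c⁻¹ • e = (g.1⁻¹).1 e
      have h1 : (g.1⁻¹).1 (g.1.1 e) = e := inv_apply_self g.1 e
      rw [← hc, map_smul] at h1
      nth_rewrite 1 [← h1]
      rw [smul_smul, inv_mul_cancel₀ hc0, one_smul]) _ h
    simpa [mul_assoc] using h2
  · -- moving the points orthogonal to `e`
    intro w hwe hw
    induction w using Quotient.inductionOn with
    | h w => ?_
    have hwe' : polar Q e w.1 = 0 := by
      by_contra h
      exact hw h
    have hwe'' : polar Q w.1 e = 0 := by rw [polar_comm]; exact hwe'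
    set s := polar Q w.1 f
    set u := w.1 + (-s) • e with hu
    have hu0 : u ≠ 0 := by
      intro h0
      refine hwe (Quotient.sound ((CfsgLib.Classical.Quad.sameLine Q).symm ⟨s, ?_⟩))
      show s • e = w.1
      linear_combination (norm := module) -h0
    have hue : polar Q u e = 0 := by
      simp [hu, hwe'', polar_singular_self hQe]
    have huf : polar Q u f = 0 := by simp [hu, hef, s]
    have hQu : Q u = 0 := by
      rw [hu, Q_comb1, w.2.2, hQe, hwe'']; ring
    obtain ⟨x, hx⟩ := exists_polar_one hnd hu0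
    set y := x + (-(polar Q x f)) • e + (-(polar Q x e)) • f with hy
    have hye : polar Q y e = 0 := by
      simp [hy, polar_singular_self hQe, polar_comm Q f e, hef]
    have hyf : polar Q y f = 0 := by
      simp [hy, polar_singular_self hQf, hef]
    have huy : polar Q u y = 1 := by simp [hy, hue, huf, hx]
    set z := y + (-(Q y)) • u with hz
    have hze : polar Q z e = 0 := by simp [hz, hye, hue]
    have hzf : polar Q z f = 0 := by simp [hz, hyf, huf]
    have huz : polar Q u z = 1 := by simp [hz, huy, polar_singular_self hQu]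
    have hQz : Q z = 0 := by
      rw [hz, Q_comb1, hQu, polar_comm Q y u, huy]; ring
    obtain ⟨v, hv0, hve, hvf, hvu, hvz⟩ : ∃ v, v ≠ 0 ∧ polar Q e v = 0 ∧ polar Q f v = 0 ∧
        polar Q u v = 0 ∧ polar Q z v = 0 := by
      let L : Vm F m W →ₗ[F] (Fin 4 → F) :=
        LinearMap.pi ![polarBilin Q e, polarBilin Q f, polarBilin Q u, polarBilin Q z]
      have h5 : 5 ≤ finrank F (Vm F m W) := P.five_le_finrank
      have hk : LinearMap.ker L ≠ ⊥ := fun h => by
        have := LinearMap.finrank_le_finrank_of_injective (LinearMap.ker_eq_bot.1 h)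
        rw [Module.finrank_fin_fun] at this
        omega
      obtain ⟨v, hv, hv0⟩ := Submodule.exists_mem_ne_zero_of_ne_bot hk
      exact ⟨v, hv0, congrFun hv 0, congrFun hv 1, congrFun hv 2, congrFun hv 3⟩
    have hfix : ∀ t, polar Q t z = 0 → polar Q t v = 0 → (sg Q z v).1 t = t :=
      fun t h1 h2 => sg_fix hQz hvz h1 h2
    refine ⟨π ⟨_, sg_mem z v⟩, ?_, ?_, fun hfx => ?_⟩
    · exact Quotient.sound ⟨1, by
        show (1 : F) • (sg Q z v).1 e = e
        rw [hfix e (by rw [polar_comm]; exact hze) hve, one_smul]⟩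
    · exact Quotient.sound ⟨1, by
        show (1 : F) • (sg Q z v).1 f = f
        rw [hfix f (by rw [polar_comm]; exact hzf) hvf, one_smul]⟩
    · obtain ⟨μ, hμ⟩ := (CfsgLib.Classical.Quad.sameLine Q).symm (Quotient.exact hfx)
      change μ • w.1 = (sg Q z v).1 w.1 at hμ
      have hw1 : w.1 = u + s • e := by rw [hu]; module
      have hwz : polar Q w.1 z = 1 := by
        simp [hw1, huz, polar_comm Q e z, hze]
      have hwv : polar Q w.1 v = 0 := by simp [hw1, hvu, hve]
      rw [sg_apply hQz hvz, hwz, hwv] at hμ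
      have hu2 := congrArg (fun t => polar Q t u) hμ
      have hz2 := congrArg (fun t => polar Q t z) hμ
      have hvu' : polar Q v u = 0 := by rw [polar_comm]; exact hvu
      have hvz' : polar Q v z = 0 := by rw [polar_comm]; exact hvz
      have hzu : polar Q z u = 1 := by rw [polar_comm]; exact huz
      have hwu : polar Q w.1 u = 0 := by
        simp [hw1, polar_singular_self hQu, polar_comm Q e u, hue]
      simp [hwu, hzu, hvu'] at hu2
      simp [hwz, hvz', polar_singular_self hQz] at hz2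
      rw [hz2, hu2] at hμ
      exact hv0 (by linear_combination (norm := module) -hμ)
  · -- separation
    intro a b hae hbe hab ha hb
    induction a using Quotient.inductionOn with
    | h a => ?_
    induction b using Quotient.inductionOn with
    | h b => ?_
    have ha' : polar Q e a.1 = 0 := by
      by_contra h
      exact ha h
    have hb' : polar Q e b.1 = 0 := by
      by_contra h
      exact hb h
    obtain ⟨x, hxa, hxe, hxb⟩ : ∃ x, polar Q a.1 x = 0 ∧ polar Q e x ≠ 0 ∧ polar Q b.1 x ≠ 0 := by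
      obtain ⟨x, hxa, hxe⟩ := exists_polar_pair hnd (u := a.1) (w := e) (not_smul_eq_of_indep he0
        (fun c hc => hae (Quotient.sound ((CfsgLib.Classical.Quad.sameLine Q).symm ⟨c, hc⟩)))) 0 1
      by_cases hxb : polar Q b.1 x = 0
      · obtain ⟨y, hya, hyb⟩ := exists_polar_pair hnd (u := a.1) (w := b.1) (not_smul_eq_of_indep b.2.1
          (fun c hc => hab (Quotient.sound ((CfsgLib.Classical.Quad.sameLine Q).symm ⟨c, hc⟩)))) 0 1
        by_cases hye : polar Q e y = 0
        · exact ⟨x + y, by simp [hxa, hya], by simp [hxe, hye], by simp [hxb, hyb]⟩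
        · exact ⟨y, hya, hye, by rw [hyb]; exact one_ne_zero⟩
      · exact ⟨x, hxa, by rw [hxe]; exact one_ne_zero, hxb⟩
    set t := -(Q x) / polar Q e x with ht
    set w := x + t • e with hw
    have hQw : Q w = 0 := by
      have h1 : t * polar Q e x = -(Q x) := div_mul_cancel₀ _ hxe
      rw [hw, Q_comb1, hQe, polar_comm Q x e]
      linear_combination h1
    have hew : polar Q e w ≠ 0 := by simpa [hw, polar_singular_self hQe] using hxe
    have haw : polar Q a.1 w = 0 := by simp [hw, hxa, polar_comm Q a.1 e, ha']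
    have hbw : polar Q b.1 w ≠ 0 := by simpa [hw, polar_comm Q b.1 e, hb'] using hxb
    have hw0 : w ≠ 0 := fun h0 => hew (by rw [h0, polar_zero_right])
    refine ⟨Quotient.mk _ (⟨w, hw0, hQw⟩ : SingVec Q), hew, fun hiff => ?_⟩
    have h3 : polar Q w b.1 ≠ 0 := by rw [polar_comm]; exact hbw
    exact hiff.2 h3 (show polar Q w a.1 = 0 by rw [polar_comm]; exact haw)

/-- `PΩ` of a model form. -/
theorem eq_one_pomega_model {ι : Type} [Fintype ι] [DecidableEq ι] {Qf : (ι → F) → F}
    (e : (ι → F) ≃ₗ[F] Vm F m W) (he : ∀ v, hypForm m R (e v) = Qf v) (hR : NDPolar R) (hm : 3 ≤ m)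
    {G : Type*} [Group G] [Finite G] (eG : G ≃* Cfsg.POmega F Qf) (α : MulAut G)
    (hα : ¬ p ∣ orderOf α) (U : Sylow p G) (hfix : ∀ x ∈ (U : Subgroup G), α x = x) : α = 1 := by
  obtain ⟨S, hS⟩ := exists_rigidAt_siegel (p := p) hR hm
  exact eq_one_of_rigidAt (eG.trans (pomegaEquiv e he (ndPolar_hypForm hR m) (frame R hm))) hS α hα U hfix

theorem eq_one_pomega_plus {G : Type*} [Group G] [Finite G] {m : ℕ} (hm : 3 ≤ m)
    (eG : G ≃* Cfsg.POmega F (Cfsg.quadFormPlus m F)) (α : MulAut G)
    (hα : ¬ p ∣ orderOf α) (U : Sylow p G) (hfix : ∀ x ∈ (U : Subgroup G), α x = x) : α = 1 :=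
  eq_one_pomega_model (plusEquiv m F) (plusEquiv_spec m) ndPolar_zeroKernel hm eG α hα U hfix

theorem eq_one_pomega_minus {a b : F} (hab : IsAniso a b) {G : Type*} [Group G] [Finite G] {m : ℕ}
    (hm : 3 ≤ m) (eG : G ≃* Cfsg.POmega F (Cfsg.quadFormMinus m F a b)) (α : MulAut G)
    (hα : ¬ p ∣ orderOf α) (U : Sylow p G) (hfix : ∀ x ∈ (U : Subgroup G), α x = x) : α = 1 :=
  eq_one_pomega_model (minusEquiv m F) (minusEquiv_spec m a b) (ndPolar_binForm hab) hm eG α hα U hfix

theorem eq_one_pomega_odd (hodd : Odd (Nat.card F)) {G : Type*} [Group G] [Finite G] {m : ℕ}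
    (hm : 3 ≤ m) (eG : G ≃* Cfsg.POmega F (Cfsg.quadFormOdd m F)) (α : MulAut G)
    (hα : ¬ p ∣ orderOf α) (U : Sylow p G) (hfix : ∀ x ∈ (U : Subgroup G), α x = x) : α = 1 :=
  eq_one_pomega_model (oddEquiv m F) (oddEquiv_spec m) (ndPolar_lineForm (two_ne_zero_iff_odd.2 hodd))
    hm eG α hα U hfix

end CfsgLib.CoprimeFix
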