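import Cfsg.Agent.Lib.CoprimeFix.Core

/-!
The criterion by points: the radical of a point, and the relation of being non-orthogonal.
-/

set_option autoImplicit false

namespace CfsgLib.CoprimeFix

variable {G Ω : Type*} [Group G] [Finite G] {p : ℕ} [Fact p.Prime]

/-- A group acting faithfully and transitively on points, with an invariant symmetric relation. If the
stabiliser of a point normalises a `p`-subgroup containing its centraliser, is transitive on the
related points, fixes no further point together with one of them, and the related points separate the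
other ones, then some Sylow subgroup is rigid. -/
theorem exists_rigidAt_of_points (ρ : G →* Equiv.Perm Ω) (hρ : ∀ g, (∀ x, ρ g x = x) → g = 1)
    (N : Ω → Ω → Prop) (hN : ∀ g x y, N x y → N (ρ g x) (ρ g y))
    (e w₀ : Ω) (htr : ∀ x, ∃ g, ρ g e = x) (hew : N e w₀)
    (R : Subgroup G) (hRp : IsPGroup p R) (htrN : ∀ w, N e w → ∃ g ∈ R, ρ g e = e ∧ ρ g w₀ = w) (hC : ∀ d, (∀ r ∈ R, d * r = r * d) → d ∈ R)
    (hstab : ∀ g, ρ g e = e → g ∈ Subgroup.normalizer (R : Set G))
    (h1 : ∀ w, w ≠ e → ¬ N e w → ∃ g, ρ g e = e ∧ ρ g w₀ = w₀ ∧ ρ g w ≠ w)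
    (h2 : ∀ z z', z ≠ e → z' ≠ e → z ≠ z' → ¬ N e z → ¬ N e z' →
      ∃ w, N e w ∧ ¬ (N w z ↔ N w z')) :
    ∃ S : Sylow p G, RigidAt p (S : Subgroup G) := by
  obtain ⟨S, hS⟩ := hRp.exists_le_sylow
  refine ⟨S, fun α hα hfix => ?_⟩
  have hRX : R ≤ fixSub α := fun r hr => hfix r (hS hr)
  have hX : ∀ g, ρ g e = e → α g = g := fun g hg =>
    normalizer_le_fix' hα hRX hRp hRX hC (hstab g hg)
  have hmul : ∀ a b x, ρ (a * b) x = ρ a (ρ b x) := fun a b x => by rw [map_mul]; rfl
  have hinv : ∀ a x y, ρ a x = y → ρ a⁻¹ y = x := fun a x y h => by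
    rw [← h, ← hmul, inv_mul_cancel, map_one]; rfl
  -- the permutation of the points
  have hwd : ∀ g g', ρ g e = ρ g' e → ρ (α g) e = ρ (α g') e := by
    intro g g' h
    have h3 : ρ (g⁻¹ * g') e = e := by rw [hmul, ← h]; exact hinv g e _ rfl
    have h4 := hX _ h3
    rw [map_mul, map_inv, inv_mul_eq_iff_eq_mul] at h4
    rw [h4, hmul, h3]
  choose y hy using htr
  let φ : Ω → Ω := fun x => ρ (α (y x)) e
  have hφ : ∀ g, φ (ρ g e) = ρ (α g) e := fun g => hwd _ _ (hy _)
  have hφe : φ e = e := by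
    have h := hφ 1
    simp only [map_one, Equiv.Perm.one_apply] at h
    exact h
  have hφstab : ∀ g, ρ g e = e → ∀ x, φ (ρ g x) = ρ g (φ x) := by
    intro g hg x
    conv_lhs => rw [← hy x, ← hmul]
    rw [hφ, map_mul, hX g hg, hmul]
  have hφmul : ∀ g x, φ (ρ g x) = ρ (α g) (φ x) := by
    intro g x
    conv_lhs => rw [← hy x, ← hmul]
    rw [hφ, map_mul, hmul]
  have hφne : ∀ x, x ≠ e → φ x ≠ e := by
    intro x hx h
    have h3 : α (y x) = y x := α.injective (hX _ h)
    refine hx ?_
    rw [← hy x]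
    have h' : ρ (α (y x)) e = e := h
    rwa [h3] at h' 
  have hw₀e : w₀ ≠ e → φ w₀ = w₀ := by
    intro hne
    have hrelw : N e (φ w₀) := by
      by_contra hnot
      obtain ⟨g, hge, hgw, hmove⟩ := h1 _ (hφne _ hne) hnot
      exact hmove (by rw [← hφstab g hge, hgw])
    obtain ⟨r, hr, hre, hrw⟩ := htrN _ hrelw
    have hit : ∀ j : ℕ, φ^[j] w₀ = ρ (r ^ j) w₀ := by
      intro j
      induction j with
      | zero => simp
      | succ j ih =>
        have hje : ρ (r ^ j) e = e := by
          clear ih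
          induction j with
          | zero => simp
          | succ j ih => rw [pow_succ, hmul, hre, ih]
        rw [Function.iterate_succ_apply', ih, hφstab _ hje, ← hrw, ← hmul, ← pow_succ]
    have hk : ρ (r ^ orderOf α) w₀ = w₀ := by
      rw [← hit]
      obtain ⟨k, hk⟩ := Nat.exists_eq_add_of_lt (orderOf_pos α)
      have hh : ∀ (j : ℕ) x, φ^[j] x = ρ ((α ^ j) (y x)) e := by
        intro j
        induction j with
        | zero => intro x; simp [hy x]
        | succ j ih =>
          intro x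
          rw [Function.iterate_succ_apply', ih, hφ, pow_succ', MulAut.mul_apply]
      rw [hh, pow_orderOf_eq_one, MulAut.one_apply, hy]
    obtain ⟨a, ha⟩ := hRp ⟨r, hr⟩
    have ha' : r ^ p ^ a = 1 := congrArg Subtype.val ha
    have hcop : Nat.Coprime (orderOf r) (orderOf α) :=
      Nat.Coprime.coprime_dvd_left (orderOf_dvd_of_pow_eq_one ha')
        (Nat.Coprime.pow_left a ((Fact.out : p.Prime).coprime_iff_not_dvd.2 hα))
    obtain ⟨j, hj⟩ := exists_pow_eq_self_of_coprime hcop.symm
    rw [← hrw, ← hj]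
    clear hj
    induction j with
    | zero => simp
    | succ j ih => rw [pow_succ, hmul, hk, ih]
  have hfixN : ∀ w, N e w → φ w = w := by
    intro w hw
    obtain ⟨g, -, hge, rfl⟩ := htrN w hw
    rcases eq_or_ne w₀ e with h | h
    · rw [h, hge, hφe]
    · rw [hφstab g hge, hw₀e h]
  have hrel : ∀ a b, N a b → N (φ a) (φ b) := by
    intro a b hab
    have h3 : N e (ρ (y a)⁻¹ b) := by
      have h4 := hN (y a)⁻¹ a b hab
      rwa [hinv _ _ _ (hy a)] at h4
    obtain ⟨g, -, hge, hgw⟩ := htrN _ h3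
    have hb : b = ρ (y a * g) w₀ := by rw [hmul, hgw, ← hmul, mul_inv_cancel, map_one]; rfl
    have ha : a = ρ (y a * g) e := by rw [hmul, hge, hy]
    have h5 := hN (α (y a * g)) e w₀ hew
    rw [hb, hφmul, hfixN w₀ hew]
    conv_lhs => rw [ha, hφmul, hφe]
    exact h5
  have hiter : ∀ (j : ℕ) x, φ^[j] x = ρ ((α ^ j) (y x)) e := by
    intro j
    induction j with
    | zero => intro x; simp [hy x]
    | succ j ih =>
      intro x
      rw [Function.iterate_succ_apply', ih, hφ, pow_succ', MulAut.mul_apply]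
  have hrel' : ∀ w x, φ w = w → (N w (φ x) ↔ N w x) := by
    intro w x hw
    refine ⟨fun h => ?_, fun h => by simpa [hw] using hrel w x h⟩
    have h3 : ∀ j, N w (φ^[j] (φ x)) := by
      intro j
      induction j with
      | zero => exact h
      | succ j ih =>
        rw [Function.iterate_succ_apply']
        have := hrel _ _ ih
        rwa [hw] at this
    obtain ⟨k, hk⟩ := Nat.exists_eq_add_of_lt (orderOf_pos α)
    have h4 := h3 k
    rw [← Function.iterate_succ_apply, hiter,
      show k.succ = orderOf α by omega, pow_orderOf_eq_one, MulAut.one_apply, hy] at h4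
    exact h4
  have hall : ∀ x, φ x = x := by
    intro x
    rcases eq_or_ne x e with rfl | hx
    · exact hφe
    by_cases hNx : N e x
    · exact hfixN x hNx
    by_contra hne
    obtain ⟨w, hw, hsep⟩ := h2 (φ x) x (hφne x hx) hx hne (fun h => hNx ((hrel' e x hφe).1 h)) hNx
    exact hsep (hrel' w x (hfixN w hw))
  refine MulEquiv.ext fun x => ?_
  show α x = x
  refine (inv_mul_eq_one.1 (hρ _ fun z => ?_)).symm
  rw [hmul]
  have h3 := hall (ρ x z)
  rw [hφmul, hall z] at h3
  rw [h3]
  exact hinv x z _ rfl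

end CfsgLib.CoprimeFix
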