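import Cfsg.Agent.Lib.CoprimeFix.TwoTrans
import Cfsg.Agent.Lib.Suzuki.Sylow
import Cfsg.Agent.Lib.SuzukiMatrix.Bridge

/-!
The Suzuki groups.
-/

set_option autoImplicit false

namespace CfsgLib.CoprimeFix

open CfsgLib.Suzuki CfsgLib.SuzukiMatrix

theorem eq_one_suzuki {F : Type*} [Field F] [Fintype F] {m : ℕ} (h : SzHyp F m) {G : Type*} [Group G]
    [Finite G] (e : G ≃* Cfsg.Lie.Sz F (2 ^ (m + 1))) (α : MulAut G) (hα : ¬ 2 ∣ orderOf α)
    (S : Sylow 2 G) (hfix : ∀ x ∈ (S : Subgroup G), α x = x) : α = 1 := by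
  have : Fact (Nat.Prime 2) := ⟨Nat.prime_two⟩
  have e' : G ≃* Cfsg.Sz F m := e.trans (szEquiv h).symm
  haveI : Finite (Cfsg.Sz F m) := Finite.of_equiv G e'.toEquiv
  have := faithfulSMul h
  let x₀ : Cfsg.suzukiOvoid F m := ⟨pInf, pInf_mem⟩
  let y₀ : Cfsg.suzukiOvoid F m := ⟨pAff m 0 0, pAff_mem _ _⟩
  let z₀ : Cfsg.suzukiOvoid F m := ⟨pAff m 1 0, pAff_mem _ _⟩
  obtain ⟨P, hP⟩ := split_two_transitive (p := 2) (isTwoPretransitive h) (x := x₀) (y := y₀) (z := z₀)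
    (fun e => pAff_ne_pInf 0 0 (congrArg Subtype.val e).symm)
    (fun e => zero_ne_one (pAff_inj (congrArg Subtype.val e)).1)
    (fun e => pAff_ne_pInf 1 0 (congrArg Subtype.val e).symm)
    (tGroup h) (fun g hg => MulAction.mem_stabilizer_iff.2 (Subtype.ext (fix_pInf_of_mem_tGroup h hg)))
    (fun b hb u hu => by
      obtain ⟨a, c, k, rfl⟩ := exists_tS_dS h (congrArg Subtype.val (MulAction.mem_stabilizer_iff.1 hb))
      obtain ⟨a', c', rfl⟩ := hu
      rw [show tS h a c * dS h k * tS h a' c' * (tS h a c * dS h k)⁻¹ =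
        tS h a c * (dS h k * tS h a' c' * (dS h k)⁻¹) * (tS h a c)⁻¹ by group, dS_conj]
      exact mul_mem (mul_mem (tS_mem_tGroup h _ _) (tS_mem_tGroup h _ _))
        (inv_mem (tS_mem_tGroup h _ _)))
    (tSylow h).isPGroup' (tSylow h).not_dvd_index
    (fun w hw => by
      rcases mem_ovoid.1 w.2 with e | ⟨a, b, e⟩
      · exact absurd (Subtype.ext e) hw
      · exact ⟨tS h a b, tS_mem_tGroup h a b, Subtype.ext (by rw [coe_smul_ovoid, tS_smul_p0, e])⟩)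
  exact hP.eq_one e' α hα S hfix

end CfsgLib.CoprimeFix
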