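import Cfsg.Agent.Lib.CoprimeFix.Core
import Cfsg.Agent.Lib.LieFusion.PSp
import Cfsg.Agent.Lib.Linear.Symplectic

/-!
The symplectic groups.
-/

set_option autoImplicit false

namespace CfsgLib.CoprimeFix

open Matrix CfsgLib.AutPSL CfsgLib.LieFusion CfsgLib.LieFusion.Symp

variable {m : ℕ} {F : Type*} [Field F]

theorem lower_congr {C C' : Matrix (Fin m) (Fin m) F} (h : C = C') (hC : Cᵀ = C) (hC' : C'ᵀ = C') :
    lower C hC = lower C' hC' := by subst h; rfl

theorem lower_mul {C C' : Matrix (Fin m) (Fin m) F} (hC : Cᵀ = C) (hC' : C'ᵀ = C') :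
    lower C hC * lower C' hC' = lower (C + C') (by rw [transpose_add, hC, hC']) := Subtype.ext (by
  rw [sp_mul, lower_coe, lower_coe, lower_coe, fromBlocks_multiply]
  simp)

theorem lower_zero (h : (0 : Matrix (Fin m) (Fin m) F)ᵀ = 0) : lower 0 h = 1 := Subtype.ext (by
  rw [lower_coe, fromBlocks_one, sp_one])

theorem lower_inv {C : Matrix (Fin m) (Fin m) F} (hC : Cᵀ = C) :
    (lower C hC)⁻¹ = lower (-C) (by rw [transpose_neg, hC]) := by
  refine inv_eq_of_mul_eq_one_right ?_
  rw [lower_mul, lower_congr (add_neg_cancel C) _ transpose_zero, lower_zero]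

theorem lsl_conj_lower (A : SLg m F) {C : Matrix (Fin m) (Fin m) F} (hC : Cᵀ = C) :
    lsl A * lower C hC * (lsl A)⁻¹ = lower ((A⁻¹).1ᵀ * C * (A⁻¹).1)
      (by rw [transpose_mul, transpose_mul, transpose_transpose, hC, Matrix.mul_assoc]) := by
  rw [mul_inv_eq_iff_eq_mul]
  refine Subtype.ext ?_
  rw [sp_mul, sp_mul, lsl_coe, lower_coe, lower_coe, fromBlocks_multiply, fromBlocks_multiply]
  have h : (A⁻¹).1 * A.1 = 1 := by rw [← LieFusion.sl_mul, inv_mul_cancel, LieFusion.sl_one]
  have h' : A.1.adjugate * A.1 = 1 := by rwa [← Matrix.SpecialLinearGroup.coe_inv]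
  simp [Matrix.mul_assoc, h']

/-- A transvection along a vector of the first Lagrangian. -/
theorem tv_inl (a : Fin m → F) (c : F) :
    Linear.Symp.tv (Sum.elim a 0 : Fin m ⊕ Fin m → F) c =
      unip (c • vecMulVec a a) (by rw [transpose_smul, transpose_vecMulVec]) := by
  refine Linear.Symp.group_ext fun x => ?_
  obtain ⟨x₁, x₂, rfl⟩ : ∃ x₁ x₂, x = Sum.elim x₁ x₂ :=
    ⟨x ∘ .inl, x ∘ .inr, (Sum.elim_comp_inl_inr x).symm⟩
  rw [Linear.Symp.tv_smul, Linear.Symp.smul_def, unip_coe, fromBlocks_mulVec, Cfsg.sympForm, Matrix.J,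
    fromBlocks_mulVec]
  simp only [Sum.elim_comp_inl, Sum.elim_comp_inr, one_mulVec, zero_mulVec, neg_mulVec, smul_mulVec,
    vecMulVec_mulVec, op_smul_eq_smul]
  ext (i | i) <;>
    simp [sumElim_dotProduct_sumElim, dotProduct_comm x₂ a, mul_comm, mul_left_comm, mul_assoc]

/-- A transvection along a vector of the second Lagrangian. -/
theorem tv_inr (b : Fin m → F) (c : F) :
    Linear.Symp.tv (Sum.elim 0 b : Fin m ⊕ Fin m → F) c =
      lower (-(c • vecMulVec b b)) (by rw [transpose_neg, transpose_smul, transpose_vecMulVec]) := by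
  refine Linear.Symp.group_ext fun x => ?_
  obtain ⟨x₁, x₂, rfl⟩ : ∃ x₁ x₂, x = Sum.elim x₁ x₂ :=
    ⟨x ∘ .inl, x ∘ .inr, (Sum.elim_comp_inl_inr x).symm⟩
  rw [Linear.Symp.tv_smul, Linear.Symp.smul_def, lower_coe, fromBlocks_mulVec, Cfsg.sympForm, Matrix.J,
    fromBlocks_mulVec]
  simp only [Sum.elim_comp_inl, Sum.elim_comp_inr, one_mulVec, zero_mulVec, neg_mulVec, smul_mulVec,
    vecMulVec_mulVec, op_smul_eq_smul]
  ext (i | i) <;>
    simp [sumElim_dotProduct_sumElim, dotProduct_comm x₁ b, mul_comm, mul_left_comm, mul_assoc,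
      add_comm]

/-- Symmetric root elements, the Levi part and one lower root group generate. -/
theorem symp_eq_top {Y : Subgroup (Spg m F)} (e : Fin m)
    (hunip : ∀ (B : Matrix (Fin m) (Fin m) F) (hB : Bᵀ = B), unip B hB ∈ Y)
    (hlsl : ∀ A : SLg m F, lsl A ∈ Y)
    (hlow : ∀ x : F, lower (single e e x) (single_transpose e x) ∈ Y) : Y = ⊤ := by
  classical
  let W : Set (Fin m → F) := {v | ∀ c : F, lower (c • vecMulVec v v)
    (by rw [transpose_smul, transpose_vecMulVec]) ∈ Y}
  -- rank one lower elements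
  have hW_tr : ∀ {i j : Fin m} (h : i ≠ j) (t : F) {v : Fin m → F}, v ∈ W →
      v + (t * v j) • (Pi.single i 1 : Fin m → F) ∈ W := by
    intro i j h t v hv c
    have h1 := Y.mul_mem (Y.mul_mem (hlsl (SpecialLinearGroup.transvection h.symm (-t))) (hv c))
      (Y.inv_mem (hlsl (SpecialLinearGroup.transvection h.symm (-t))))
    rw [lsl_conj_lower] at h1
    convert h1 using 1
    refine lower_congr ?_ _ _
    rw [SpecialLinearGroup.transvection_inv, neg_neg, Matrix.mul_smul, Matrix.smul_mul, mul_vecMulVec,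
      vecMulVec_mul, ← mulVec_transpose]
    have hv' : (1 + single j i t)ᵀ *ᵥ v = v + (t * v j) • (Pi.single i 1 : Fin m → F) := by
      rw [transpose_add, transpose_one, transpose_single, add_mulVec, one_mulVec]
      ext k
      rcases eq_or_ne k i with rfl | hk
      · simp [Matrix.mulVec, dotProduct, single_apply]
      · simp [Matrix.mulVec, dotProduct, single_apply, hk, Ne.symm hk]
    rw [LieFusion.sl_tr h.symm, hv']
  have hWe : (Pi.single e 1 : Fin m → F) ∈ W := by
    intro c
    convert hlow c using 1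
    refine lower_congr ?_ _ _
    rw [← single_eq_single_vecMulVec_single, smul_single]
    simp
  have hWk : ∀ k : Fin m, (Pi.single k 1 : Fin m → F) ∈ W := by
    intro k
    rcases eq_or_ne k e with rfl | hk
    · exact hWe
    have h1 := hW_tr hk.symm (-1) (hW_tr hk 1 hWe)
    simpa [hk, hk.symm] using h1
  have hWall : ∀ v : Fin m → F, v ≠ 0 → v ∈ W := by
    intro v hv
    obtain ⟨k, hk⟩ := Function.ne_iff.1 hv
    have hstep : ∀ s : Finset (Fin m), k ∉ s → ∀ w : Fin m → F,
        (Pi.single k 1 : Fin m → F) + ∑ i ∈ s, w i • (Pi.single i 1 : Fin m → F) ∈ W := by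
      intro s
      induction s using Finset.induction_on with
      | empty => intro _ w; simpa using hWk k
      | @insert i s hi ih =>
        intro hks w
        rw [Finset.mem_insert, not_or] at hks
        have h1 := hW_tr (Ne.symm hks.1) (w i) (ih hks.2 w)
        have hz : ∑ l ∈ s, (w l • (Pi.single l 1 : Fin m → F)) k = 0 := Finset.sum_eq_zero fun l hl => by
          simp [Pi.single_eq_of_ne (show k ≠ l from fun h => hks.2 (h ▸ hl))]
        rw [Pi.add_apply, Pi.single_eq_same, Finset.sum_apply, hz, add_zero, mul_one] at h1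
        rwa [Finset.sum_insert hi, add_comm (w i • _), ← add_assoc]
    have h1 := hstep (Finset.univ.erase k) (Finset.notMem_erase _ _) fun i => v i / v k
    have hk' : v k ≠ 0 := by simpa using hk
    have e1 : (v k) • ((Pi.single k 1 : Fin m → F) + ∑ i ∈ Finset.univ.erase k, (v i / v k) • (Pi.single i 1 : Fin m → F)) = v := by
      ext l
      rcases eq_or_ne l k with rfl | hl
      · simp only [Pi.smul_apply, Pi.add_apply, Finset.sum_apply, smul_eq_mul, Pi.single_eq_same]
        rw [Finset.sum_eq_zero (fun i hi => by simp [Pi.single_eq_of_ne (Finset.ne_of_mem_erase hi).symm]),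
          add_zero, mul_one]
      · simp only [Pi.smul_apply, Pi.add_apply, Finset.sum_apply, smul_eq_mul, Pi.single_eq_of_ne hl, zero_add]
        rw [Finset.sum_eq_single l (fun i _ hi => by simp [Pi.single_eq_of_ne (Ne.symm hi)]) (by simp [hl])]
        simp [mul_div_cancel₀ _ hk']
    intro c
    convert h1 (c * (v k * v k)) using 1
    refine lower_congr ?_ _ _
    conv_lhs => rw [← e1]
    rw [smul_vecMulVec, vecMulVec_smul, smul_smul, smul_smul, mul_assoc]
  have hW0 : (0 : Fin m → F) ∈ W := by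
    intro c
    rw [lower_congr (C' := 0) (by simp) _ transpose_zero, lower_zero]
    exact one_mem _
  have hsq : ∀ (v : Fin m → F) (c : F), lower (c • vecMulVec v v)
      (by rw [transpose_smul, transpose_vecMulVec]) ∈ Y := fun v c => by
    rcases eq_or_ne v 0 with rfl | hv
    · exact hW0 c
    · exact hWall v hv c
  -- transvections
  refine top_le_iff.1 ((Linear.Symp.transvectionSubgroup_eq_top (m := m) (F := F)).ge.trans ?_)
  refine (Subgroup.closure_le _).2 ?_
  rintro g ⟨w, c, hg⟩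
  obtain rfl : g = Linear.Symp.tv w c := Subtype.ext hg
  obtain ⟨a, b, rfl⟩ : ∃ a b, w = Sum.elim a b := ⟨w ∘ .inl, w ∘ .inr, (Sum.elim_comp_inl_inr w).symm⟩
  show Linear.Symp.tv (Sum.elim a b) c ∈ Y
  by_cases ha : a = 0
  · subst ha
    rw [tv_inr, lower_congr (C' := (-c) • vecMulVec b b) (by rw [neg_smul]) _
      (by rw [transpose_smul, transpose_vecMulVec])]
    exact hsq b _
  obtain ⟨k, hk⟩ := Function.ne_iff.1 ha
  have hk' : a k ≠ 0 := by simpa using hk
  set u : Fin m → F := Pi.single k (a k)⁻¹ with hu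
  have hua : u ⬝ᵥ a = 1 := by rw [hu, single_dotProduct, inv_mul_cancel₀ hk']
  set d := b ⬝ᵥ a
  set C : Matrix (Fin m) (Fin m) F :=
    (1 : F) • vecMulVec (b + u) (b + u) + (-1 : F) • vecMulVec b b + (-1 - d) • vecMulVec u u with hCdef
  have hC : Cᵀ = C := by
    simp only [hCdef, transpose_add, transpose_smul, transpose_vecMulVec]
  have hCa : C *ᵥ a = b := by
    simp only [hCdef, add_mulVec, smul_mulVec, vecMulVec_mulVec, op_smul_eq_smul, add_dotProduct, hua]
    module
  have hCY : lower C hC ∈ Y := by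
    rw [← lower_mul (by simp [transpose_vecMulVec]) (by simp [transpose_vecMulVec]),
      ← lower_mul (by simp [transpose_vecMulVec]) (by simp [transpose_vecMulVec])]
    exact mul_mem (mul_mem (hsq _ _) (hsq _ _)) (hsq _ _)
  have hmove : lower C hC • (Sum.elim a 0 : Fin m ⊕ Fin m → F) = Sum.elim a b := by
    rw [Linear.Symp.smul_def, lower_coe, fromBlocks_mulVec]
    simp [hCa]
  rw [← hmove, ← Linear.Symp.tv_conj]
  exact mul_mem (mul_mem hCY ((tv_inl a c).symm ▸ hunip _ _)) (inv_mem hCY)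

variable [Fintype F] {p : ℕ} [Fact p.Prime] [CharP F p]

/-- The symplectic case. -/
theorem exists_rigidAt_psp (hm : 2 ≤ m) :
    ∃ S : Sylow p (Cfsg.PSp m F), RigidAt p (S : Subgroup (Cfsg.PSp m F)) := by
  classical
  obtain ⟨S₀, hS₀⟩ := exists_sylow (m := m) (F := F) (p := p)
  refine ⟨S₀, rigidAt_of_le fun α hα hU => ?_⟩
  rw [hS₀] at hU
  set φ : Spg m F →* Cfsg.PSp m F := QuotientGroup.mk' _ with hφ
  set Y : Subgroup (Spg m F) := (fixSub α).comap φ
  have hup : upper m F ≤ Y := Subgroup.map_le_iff_le_comap.1 hU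
  have hUp : IsPGroup p ↥((upper m F).map φ) := by rw [← hS₀]; exact S₀.isPGroup'
  have hcomm : ∀ {g u : Spg m F}, u ∈ upper m F → φ g * φ u = φ u * φ g → g * u = u * g := by
    intro g u hu h
    have h2 : φ u = φ (g * u * g⁻¹) := by rw [map_mul, map_mul, map_inv, h, mul_inv_cancel_right]
    obtain ⟨k, hk⟩ := upper_pow_eq_one p hu
    have h3 := eq_of_mk_eq p (k := k) hk (by rw [conj_pow, hk]; group) h2
    exact mul_inv_eq_iff_eq_mul.1 h3.symm
  have hcenter : ∀ {a : Fˣ}, a * a = 1 → φ (tor fun _ : Fin m => a) = 1 := fun {a} ha =>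
    (QuotientGroup.eq_one_iff _).2 (tor_const_mem_center ha)
  let o : Fin m := ⟨0, by omega⟩
  let e : Fin m := ⟨1, by omega⟩
  have hoe : e ≠ o := fun h => absurd (congrArg Fin.val h).symm zero_ne_one
  have hole : ∀ i : Fin m, o ≤ i := fun i => Nat.zero_le (i : ℕ)
  have hsiegel : siegelRad m F ≤ upper m F := by
    rintro _ ⟨B, hB, rfl⟩
    exact unip_mem_upper hB
  have hR : ∀ (R : Subgroup (Spg m F)), R ≤ upper m F →
      (∀ g, (∀ u ∈ R, g * u = u * g) → φ g ∈ (upper m F).map φ) →
      ∀ g, (∀ u ∈ R, g * u * g⁻¹ ∈ R) → (∀ u ∈ R, g⁻¹ * u * g ∈ R) → g ∈ Y := by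
    intro R hRu hC g h1 h2
    refine normalizer_le_fix' hα ((Subgroup.map_mono hRu).trans hU) hUp hU (fun d hd => ?_) ?_
    · obtain ⟨A, rfl⟩ := QuotientGroup.mk'_surjective _ d
      exact hC A fun u hu => hcomm (hRu hu) (hd _ (Subgroup.mem_map_of_mem φ hu))
    · refine Subgroup.le_normalizer_map φ (Subgroup.mem_map_of_mem φ ?_)
      rw [Subgroup.mem_normalizer_iff]
      refine fun u => ⟨h1 u, fun h => ?_⟩
      simpa [mul_assoc] using h2 _ h
  have hlsl : ∀ A : SLg m F, lsl A ∈ Y := by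
    intro A
    have hn : ∀ (A : SLg m F), ∀ u ∈ siegelRad m F, lsl A * u * (lsl A)⁻¹ ∈ siegelRad m F := by
      rintro A _ ⟨B, hB, rfl⟩
      rw [lsl_conj]
      exact ⟨_, _, rfl⟩
    refine hR _ hsiegel (fun g hg => ?_) _ (hn A) fun u hu => ?_
    · obtain ⟨a, ha, B, hB, rfl⟩ := exists_of_comm_siegelRad (g := g) fun B hB => hg _ ⟨B, hB, rfl⟩
      rw [map_mul, hcenter ha, one_mul]
      exact Subgroup.mem_map_of_mem φ (unip_mem_upper hB)
    · have := hn A⁻¹ u hu
      rwa [map_inv, inv_inv] at this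
  have hlow : ∀ x : F, lower (single e e x) (single_transpose e x) ∈ Y := by
    intro x
    have hfp : ∀ x : F, FixesPair o (lower (single e e x) (single_transpose e x)).1 := fun x =>
      fixesPair_of_blocks (fun c => ⟨rfl, rfl⟩) (fun c => ⟨rfl, rfl⟩)
        (fun c => by simp [single_apply, hoe]) (fun c => ⟨rfl, rfl⟩)
    have hi : (lower (single e e x) (single_transpose e x))⁻¹ =
        lower (single e e (-x)) (single_transpose e _) := by
      rw [lower_inv]; exact lower_congr (by rw [single_neg]) _ _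
    refine hR _ (pointRad_le_upper hole) (fun g hg => ?_) _
      (fun u hu => conj_mem_pointRad (hfp x) (hi ▸ hfp (-x)) hu) (fun u hu => ?_)
    · obtain ⟨a, ha, hag⟩ := exists_of_comm_pointRad (o := o) (g := g) hg
      have : φ g = φ (tor (fun _ => a) * g) := by rw [map_mul, hcenter ha, one_mul]
      rw [this]
      exact Subgroup.mem_map_of_mem φ (pointRad_le_upper hole hag)
    · have h := conj_mem_pointRad (g := (lower (single e e x) (single_transpose e x))⁻¹)
        (hi ▸ hfp (-x)) (by rw [inv_inv]; exact hfp x) hu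
      rwa [inv_inv] at h
  have htop := symp_eq_top e (fun B hB => hup (unip_mem_upper hB)) hlsl hlow
  refine top_le_iff.1 fun x _ => ?_
  obtain ⟨g, rfl⟩ := QuotientGroup.mk'_surjective _ x
  exact (htop.ge (Subgroup.mem_top g) : g ∈ Y)

end CfsgLib.CoprimeFix
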