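import Cfsg.Agent.Lib.CoprimeFix.BN
import Cfsg.Agent.S0323

/-!
The rank one case: doubly transitive groups with a Sylow subgroup regular off a point.
-/

set_option autoImplicit false

namespace CfsgLib.CoprimeFix

open scoped Pointwise

theorem split_two_transitive {G Ω : Type*} [Group G] [Finite G] [MulAction G Ω] [FaithfulSMul G Ω]
    {p : ℕ} (h2 : MulAction.IsMultiplyPretransitive G Ω 2) {x y z : Ω} (hxy : x ≠ y) (hyz : y ≠ z)
    (hxz : x ≠ z) (U : Subgroup G) (hU : U ≤ MulAction.stabilizer G x)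
    (hconj : ∀ b ∈ MulAction.stabilizer G x, ∀ u ∈ U, b * u * b⁻¹ ∈ U) (hp : IsPGroup p U)
    (hidx : ¬ p ∣ U.index) (htrans : ∀ w : Ω, w ≠ x → ∃ u ∈ U, u • y = w) :
    ∃ P : Cfsg.BNPair G, Split P p U := by
  obtain ⟨P, hB, hN, -⟩ := Cfsg.Agent.S0323.result h2 hxy hyz hxz
  have h2' : ∀ {a b c d : Ω}, a ≠ b → c ≠ d → ∃ g : G, g • a = c ∧ g • b = d :=
    MulAction.is_two_pretransitive_iff.1 h2
  refine ⟨P, ⟨hB ▸ hU, fun b hb u hu => hconj b (hB ▸ hb) u hu, hp, hidx, fun b hb => ?_, fun g hg => ?_⟩⟩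
  · rw [hB] at hb
    have hne : b • y ≠ x := fun h => hxy (smul_left_cancel b
      (h.trans (MulAction.mem_stabilizer_iff.1 hb).symm)).symm
    obtain ⟨u, hu, huy⟩ := htrans _ hne
    have hx : (u⁻¹ * b) • x = x :=
      MulAction.mem_stabilizer_iff.1 (mul_mem (inv_mem (hU hu)) hb)
    have hy : (u⁻¹ * b) • y = y := by rw [mul_smul, inv_smul_eq_iff, huy]
    refine ⟨u, hu, u⁻¹ * b, ⟨by rw [hB]; exact hx, ?_⟩, by group⟩
    rw [hN]
    exact MulAction.mem_stabilizer_iff.2 (by rw [Set.smul_set_insert, Set.smul_set_singleton, hx, hy])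
  · refine FaithfulSMul.eq_of_smul_eq_smul (α := Ω) fun w => ?_
    rw [one_smul]
    obtain ⟨k, hk⟩ : ∃ k : G, k • x = w := by
      by_cases h : w = x
      · exact ⟨1, by rw [one_smul, h]⟩
      · obtain ⟨k, hk, -⟩ := h2' hxy h
        exact ⟨k, hk⟩
    have hmem := hg k
    rw [hB, MulAction.mem_stabilizer_iff, mul_smul, mul_smul, hk, inv_smul_eq_iff, hk] at hmem
    exact hmem

end CfsgLib.CoprimeFix
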