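import Cfsg.Agent.Lib.CoprimeFix.Points
import Cfsg.Agent.Lib.SylowOver.Unitary

/-!
The unitary groups, acting on the isotropic points.
-/

set_option autoImplicit false
set_option linter.unusedSectionVars false

namespace CfsgLib.CoprimeFix

open Module CfsgLib.Classical.Herm CfsgLib.Classical.Herm.HermSpace CfsgLib.SylowOver

variable {F V : Type*} [Field F] [AddCommGroup V] [Module F V] [Finite V] [FiniteDimensional F V]
variable {H : HermSpace F V}

/-- The isotropic points. -/
abbrev UPt (H : HermSpace F V) : Type _ := Quotient (sameLine H)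

/-- The point of an isotropic vector. -/
abbrev upt (x : IsoVec H) : UPt H := Quotient.mk (sameLine H) x

/-- The action on the isotropic points. -/
def uperm (H : HermSpace F V) : rootGen H →* Equiv.Perm (UPt H) :=
  MonoidHom.mk' (fun g => Quotient.congr (isoPerm H g.1) fun a b => by
    constructor
    · rintro ⟨c, hc⟩
      exact ⟨c, show c • g.1.1 a.1 = g.1.1 b.1 by rw [← hc, map_smul]⟩
    · rintro ⟨c, hc⟩
      exact ⟨c, g.1.1.injective (show g.1.1 (c • a.1) = g.1.1 b.1 by rw [map_smul]; exact hc)⟩)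
    fun g h => Equiv.ext fun x => by
      induction x using Quotient.inductionOn with
      | h a => rfl

theorem uperm_apply (g : rootGen H) (x : IsoVec H) : uperm H g (upt x) = upt (isoPerm H g.1 x) := rfl

variable {p : ℕ} [Fact p.Prime] [CharP F p] {e f : V}

theorem root_mem_rad {u w : V} {l : F} (c : RootCond H u w l) :
    (⟨_, root_mem c⟩ : rootGen H) ∈ rad ((Unit' H).subtype.comp (rootGen H).subtype) (F ∙ u)
      (perpOf (fun y => H.form y) (F ∙ u)) := by
  have hperp : ∀ (x : V), x ∈ perpOf (fun y => H.form y) (F ∙ u) ↔ H.h x u = 0 := fun x => by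
    rw [mem_perpOf]
    refine ⟨fun h => h u (Submodule.mem_span_singleton_self u), fun h w hw => ?_⟩
    obtain ⟨a, rfl⟩ := Submodule.mem_span_singleton.1 hw
    show H.h x (a • u) = 0
    rw [H.smul_right, h, mul_zero]
  have hle : (F ∙ u) ≤ perpOf (fun y => H.form y) (F ∙ u) := fun x hx => by
    obtain ⟨a, rfl⟩ := Submodule.mem_span_singleton.1 hx
    rw [hperp, H.smul_left, c.1, mul_zero]
  refine mem_rad_of hle (fun x hx => ?_) (fun x hx => ?_) (fun x => ?_)
  · obtain ⟨a, rfl⟩ := Submodule.mem_span_singleton.1 hx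
    show (root H u w l c).1 (a • u) = a • u
    rw [root_apply, H.smul_left, c.1, H.smul_left, H.h_comm_zero c.2.1]
    simp
  · show (root H u w l c).1 x - x ∈ F ∙ u
    rw [root_apply, (hperp x).1 hx]
    simpa using Submodule.smul_mem (F ∙ u) (H.h x w) (Submodule.mem_span_singleton_self u)
  · show (root H u w l c).1 x - x ∈ perpOf (fun y => H.form y) (F ∙ u)
    rw [root_apply, add_assoc, add_sub_cancel_left]
    exact Submodule.add_mem _ (Submodule.smul_mem _ _ ((hperp w).2 c.2.1))
      (Submodule.smul_mem _ _ ((hperp u).2 c.1))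

/-- An isometry of norm one scalar times a root element at `e`, from the commutation with all root
elements at `e`. -/
theorem eq_smul_root_of_comm (pr : IsHPair H e f) (d : Unit' H)
    (hd : ∀ (w : V) (l : F) (c : RootCond H e w l), d * root H e w l c = root H e w l c * d) :
    ∃ (a : F) (w : V) (l : F) (c : RootCond H e w l), a * H.conj a = 1 ∧
      ∀ x, d.1 x = a • (root H e w l c).1 x := by
  have heq : ∀ (w : V) (l : F) (c : RootCond H e w l) (x : V),
      (root H (d.1 e) (d.1 w) l (c.map d)).1 x = (root H e w l c).1 x := fun w l c x => by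
    rw [← root_conj d c, hd w l c, mul_inv_cancel_right]
  obtain ⟨l₀, hl0, hl⟩ := H.exists_skew
  have c₀ : RootCond H e 0 l₀ := ⟨pr.1, H.zero_left e, by rw [H.zero_left]; linear_combination hl⟩
  have hline : ∀ x, H.h x (d.1 e) • d.1 e = H.h x e • e := by
    intro x
    have h := heq 0 l₀ c₀ x
    simp only [root_apply, map_zero, H.zero_right, smul_zero, add_zero, neg_zero, zero_add,
      add_right_inj, ← smul_smul] at h
    exact smul_right_injective V hl0 h
  have hde : ∃ a : F, d.1 e = a • e ∧ a * H.conj a = 1 := by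
    obtain ⟨x, hx⟩ := H.exists_h_one (unit_ne_zero d pr.left_ne_zero)
    have h := hline x
    rw [hx, one_smul] at h
    refine ⟨H.h x e, h, ?_⟩
    rw [h, H.smul_right] at hx
    rwa [mul_comm]
  obtain ⟨a, hae, haN⟩ := hde
  have ha0 : a ≠ 0 := left_ne_zero_of_mul_eq_one haN
  have haN' : H.conj a * a = 1 := by rw [mul_comm]; exact haN
  let u : Unit' H := ⟨d.1.trans (LinearEquiv.smulOfUnit (Units.mk0 (H.conj a) (H.conj_ne_zero ha0))),
    fun x y => by
      show H.h (H.conj a • d.1 x) (H.conj a • d.1 y) = H.h x y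
      rw [H.smul_left, H.smul_right, unit_h, H.conj_conj, ← mul_assoc, haN', one_mul]⟩
  have hu : ∀ x, u.1 x = H.conj a • d.1 x := fun _ => rfl
  have hue : u.1 e = e := by rw [hu, hae, smul_smul, haN', one_smul]
  set w := u.1 f - f with hw
  set l := H.h f w
  have hfe : H.h f e = 1 := pr.2.2
  have hef : H.h e f = 1 := H.h_comm_one pr.2.2
  have hwe : H.h w e = 0 := by
    rw [hw, H.sub_left]
    nth_rewrite 1 [← hue]
    rw [unit_h, sub_self]
  have c : RootCond H e w l := ⟨pr.1, hwe, by
    have h := unit_h u f f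
    rw [show u.1 f = f + w by rw [hw]; abel, H.add_left, H.add_right, H.add_right, pr.2.1] at h
    show H.h f w + H.conj (H.h f w) + H.h w w = 0
    rw [H.symm']
    linear_combination h⟩
  set r := root H e w l c
  have hre : r.1 e = e := by simp [r, root_apply, pr.1, H.h_comm_zero hwe]
  have hrf : r.1 f = u.1 f := by
    simp only [r, root_apply, hfe, one_smul, mul_one, l, neg_add_cancel, zero_smul, add_zero]
    rw [hw]; abel
  -- the action on the orthogonal complement of `e`
  have hperp : ∀ k, H.h k e = 0 → ∃ s : F, u.1 k = k + s • e := by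
    intro k hk
    obtain ⟨L, hL⟩ := H.exists_trace (c := -H.h k k) (by rw [map_neg, H.conj_diag])
    have ck : RootCond H e k L := ⟨pr.1, hk, by linear_combination hL⟩
    have h := heq k L ck f
    simp only [root_apply, hfe, one_smul] at h
    rw [hae, H.smul_right, hfe, mul_one] at h
    have h2 : H.conj a • d.1 k = k + ((-(H.h f k) + L * 1) -
        (-(H.h f (d.1 k)) + L * H.conj a) * a) • e := by
      linear_combination (norm := module) h
    exact ⟨_, h2⟩
  have hall : ∀ x, u.1 x = r.1 x := by
    intro x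
    have hk : H.h (x - H.h x e • f) e = 0 := by rw [H.sub_left, H.smul_left, hfe, mul_one, sub_self]
    set k := x - H.h x e • f
    obtain ⟨s, hs⟩ := hperp k hk
    have hrk : r.1 k = k + (-(H.h k w)) • e := by simp [r, root_apply, hk]
    have hsk : u.1 k = r.1 k := by
      have h1 := unit_h u k f
      have h2 := unit_h r k f
      rw [hs, ← hrf, H.add_left, H.smul_left] at h1
      rw [hrk, H.add_left, H.smul_left] at h2
      have he1 : H.h e (r.1 f) = 1 := by
        nth_rewrite 1 [← hre]
        rw [unit_h, hef]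
      rw [he1] at h1 h2
      rw [hs, hrk]
      congr 2
      linear_combination h1 - h2
    have hx : x = k + H.h x e • f := (sub_add_cancel x _).symm
    rw [hx, map_add, map_add, map_smul, map_smul, hsk, hrf]
  refine ⟨a, w, l, c, haN, fun x => ?_⟩
  rw [← hall x, hu, smul_smul, haN, one_smul]

set_option maxHeartbeats 2000000 in
theorem exists_rigidAt_rootGen (hB : Big H) (hP : Perfectable H) (pr : IsHPair H e f) :
    ∃ S : Sylow p (rootGen H ⧸ Subgroup.center (rootGen H)),
      RigidAt p (S : Subgroup (rootGen H ⧸ Subgroup.center (rootGen H))) := by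
  classical
  have : Finite (V ≃ₗ[F] V) := Finite.of_injective _ DFunLike.coe_injective
  set π : rootGen H →* rootGen H ⧸ Subgroup.center (rootGen H) := QuotientGroup.mk' _ with hπ
  have hπs : Function.Surjective π := QuotientGroup.mk'_surjective _
  have hcen : Subgroup.center (rootGen H) ≤ (uperm H).ker := by
    intro g hg
    obtain ⟨μ, hμ, h⟩ := (mem_center_rootGen_iff hB hP pr g).1 hg
    refine MonoidHom.mem_ker.2 (Equiv.ext fun x => ?_)
    induction x using Quotient.inductionOn with
    | h x =>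
      refine Quotient.sound ⟨H.conj μ, ?_⟩
      show H.conj μ • g.1.1 x.1 = x.1
      rw [h, smul_smul, mul_comm, hμ, one_smul]
  let ρ := QuotientGroup.lift (Subgroup.center (rootGen H)) (uperm H) hcen
  have hρmk : ∀ g x, ρ (π g) x = uperm H g x := fun g x => rfl
  let Ne' : UPt H → UPt H → Prop := fun a b => Quotient.liftOn₂ a b (fun x y : IsoVec H => H.h y.1 x.1 ≠ 0)
    (by
      rintro x y x' y' ⟨c, hc⟩ ⟨d, hd⟩
      refine propext ?_
      have hc0 : c ≠ 0 := fun h0 => x'.2.1 (by rw [← hc, h0, zero_smul])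
      have hd0 : d ≠ 0 := fun h0 => y'.2.1 (by rw [← hd, h0, zero_smul])
      simp [← hc, ← hd, H.smul_left, H.smul_right, hc0, hd0])
  let e₀ : IsoVec H := ⟨e, pr.left_ne_zero, pr.1⟩
  let f₀ : IsoVec H := ⟨f, pr.swap.left_ne_zero, pr.2.1⟩
  let R₀ : Subgroup (rootGen H) := (rootGroup H e).comap (rootGen H).subtype
  let σ : rootGen H →* (V ≃ₗ[F] V) := (Unit' H).subtype.comp (rootGen H).subtype
  have hσ : Function.Injective σ := Subtype.val_injective.comp Subtype.val_injective
  have hR₀p : IsPGroup p R₀ := by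
    refine IsPGroup.to_le (rad_isPGroup σ hσ p (F ∙ e) (perpOf (fun y => H.form y) (F ∙ e))) ?_
    rintro g (h | ⟨w, l, c, h⟩)
    · rw [show g = 1 from Subtype.ext h]
      exact one_mem _
    · rw [show g = ⟨_, root_mem c⟩ from Subtype.ext h]
      exact root_mem_rad c
  have hpart : ∀ z : IsoVec H, H.h z.1 e ≠ 0 → IsHPair H e ((H.h z.1 e)⁻¹ • z.1) := fun z hz =>
    ⟨pr.1, by rw [H.smul_left, H.smul_right, z.2.2, mul_zero, mul_zero],
      by rw [H.smul_left, inv_mul_cancel₀ hz]⟩
  refine exists_rigidAt_of_points ρ ?_ Ne' ?_ (upt e₀) (upt f₀) ?_ ?_ (R₀.map π) (hR₀p.map π) ?_ ?_ ?_ ?_ ?_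
  · intro g hg
    obtain ⟨g, rfl⟩ := hπs g
    refine (QuotientGroup.eq_one_iff g).2 ((mem_center_rootGen_iff hB hP pr g).2 ?_)
    refine scalar_of_fix_lines hB pr g.1 fun u hu0 hu => ?_
    obtain ⟨c, hc⟩ := (sameLine H).symm (Quotient.exact (hg (upt ⟨u, hu0, hu⟩)))
    exact ⟨c, hc.symm⟩
  · intro g x y hxy
    obtain ⟨g, rfl⟩ := hπs g
    induction x using Quotient.inductionOn with
    | h x => ?_
    induction y using Quotient.inductionOn with
    | h y => ?_
    show H.h (g.1.1 y.1) (g.1.1 x.1) ≠ 0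
    rwa [unit_h]
  · intro x
    induction x using Quotient.inductionOn with
    | h x => ?_
    obtain ⟨g, hg, hge⟩ := rootGen_transitive hB pr.1 pr.left_ne_zero x.2.2 x.2.1
    exact ⟨π ⟨g, hg⟩, Quotient.sound ⟨1, by
      show (1 : F) • g.1 e = x.1
      rw [one_smul, hge]⟩⟩
  · show H.h f e ≠ 0
    rw [pr.2.2]; exact one_ne_zero
  · intro w hw
    induction w using Quotient.inductionOn with
    | h w => ?_
    obtain ⟨v, l, c, hz, he⟩ := exists_root_partner pr (hpart w hw)
    refine ⟨π ⟨_, root_mem c⟩, Subgroup.mem_map_of_mem π (show _ ∈ R₀ from Or.inr ⟨v, l, c, rfl⟩), ?_, ?_⟩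
    · exact Quotient.sound ⟨1, by show (1 : F) • (root H e v l c).1 e = e; rw [one_smul, he]⟩
    · refine Quotient.sound ⟨H.h w.1 e, ?_⟩
      show H.h w.1 e • (root H e v l c).1 f = w.1
      rw [hz, smul_smul, mul_inv_cancel₀ hw, one_smul]
  · -- the centraliser
    intro d hd
    obtain ⟨d, rfl⟩ := hπs d
    obtain ⟨k, hk⟩ : ∃ k, ∀ r ∈ R₀, r ^ p ^ k = 1 := by
      obtain ⟨n, hn⟩ := hR₀p.exists_card_eq
      exact ⟨n, fun r hr => congrArg Subtype.val (hn ▸ pow_card_eq_one' : (⟨r, hr⟩ : R₀) ^ p ^ n = 1)⟩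
    have hcomm : ∀ r ∈ R₀, d * r = r * d := by
      intro r hr
      set z := r⁻¹ * (d * r * d⁻¹) with hz
      have hzc : z ∈ Subgroup.center (rootGen H) := by
        refine (QuotientGroup.eq_one_iff z).1 ?_
        show π z = 1
        rw [hz, map_mul, map_mul, map_mul, map_inv, map_inv, hd _ (Subgroup.mem_map_of_mem π hr)]
        group
      have hzp : z ^ p ^ k = 1 := by
        have h1 : (r * z) ^ p ^ k = 1 := by
          rw [hz, mul_inv_cancel_left, conj_pow, hk r hr]; group
        have hc2 : Commute r z := Subgroup.mem_center_iff.1 hzc r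
        rwa [hc2.mul_pow, hk r hr, one_mul] at h1
      obtain ⟨μ, -, hμ⟩ := (mem_center_rootGen_iff hB hP pr z).1 hzc
      have hpow : ∀ n : ℕ, (z ^ n).1.1 e = μ ^ n • e := by
        intro n
        induction n with
        | zero => simp
        | succ n ih =>
          rw [pow_succ', pow_succ' μ, Subgroup.coe_mul, mul_apply, ih, hμ, smul_smul]
      have h1 := hpow (p ^ k)
      rw [hzp] at h1
      have h2 : μ ^ p ^ k = 1 := by
        have : (μ ^ p ^ k - 1) • e = 0 := by
          rw [sub_smul, one_smul, sub_eq_zero]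
          simpa using h1.symm
        exact sub_eq_zero.1 ((smul_eq_zero.1 this).resolve_right pr.left_ne_zero)
      have hμ1 : μ = 1 := by
        haveI : ExpChar F p := ExpChar.prime Fact.out
        exact iterateFrobenius_inj F p k (by simp only [iterateFrobenius_def, h2, one_pow])
      have hz1 : z = 1 := Subtype.ext (unit_ext fun x => by rw [hμ, hμ1, one_smul]; rfl)
      rw [hz, inv_mul_eq_one] at hz1
      exact (mul_inv_eq_iff_eq_mul.1 hz1.symm)
    obtain ⟨a, w, l, c, haN, ha⟩ := eq_smul_root_of_comm pr d.1 fun w l c =>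
      congrArg Subtype.val (hcomm ⟨_, root_mem c⟩ (show _ ∈ R₀ from Or.inr ⟨w, l, c, rfl⟩))
    set r : rootGen H := ⟨_, root_mem c⟩
    have hz : r⁻¹ * d ∈ Subgroup.center (rootGen H) := by
      refine (mem_center_rootGen_iff hB hP pr _).2 ⟨a, haN, fun x => ?_⟩
      show (r⁻¹).1.1 (d.1.1 x) = a • x
      rw [ha, map_smul]
      congr 1
      exact inv_apply_self (root H e w l c) x
    refine ⟨r, show r ∈ R₀ from Or.inr ⟨w, l, c, rfl⟩, ?_⟩
    show π r = π d
    exact QuotientGroup.eq.2 hz
  · -- the stabiliser normalises the root group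
    intro g hg
    obtain ⟨g, rfl⟩ := hπs g
    obtain ⟨c, hc⟩ := (sameLine H).symm (Quotient.exact hg)
    change c • e = g.1.1 e at hc
    have hc0 : c ≠ 0 := fun h0 => unit_ne_zero g.1 pr.left_ne_zero (by rw [← hc, h0, zero_smul])
    have hle : ∀ (g : rootGen H) (c : F), c ≠ 0 → c • e = g.1.1 e → ∀ r ∈ R₀, g * r * g⁻¹ ∈ R₀ := by
      intro g c hc0 hc r hr
      show (g : Unit' H) * r.1 * (g : Unit' H)⁻¹ ∈ rootGroup H e
      rcases hr with h | ⟨w, l, cc, h⟩
      · rw [show r.1 = 1 from h]
        simp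
      · rw [show r.1 = _ from h, root_conj]
        have := rootGroup_le_smul (H := H) (inv_ne_zero hc0) (c • e)
        rw [smul_smul, inv_mul_cancel₀ hc0, one_smul] at this
        refine this (Or.inr ⟨g.1.1 w, l, ?_, ?_⟩)
        · rw [hc]; exact cc.map g.1
        · exact root_congr _ _ hc.symm rfl rfl
    refine Subgroup.le_normalizer_map π (Subgroup.mem_map_of_mem π ?_)
    rw [Subgroup.mem_normalizer_iff]
    refine fun r => ⟨hle g c hc0 hc r, fun h => ?_⟩
    have h2 := hle g⁻¹ c⁻¹ (inv_ne_zero hc0) (by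
      show c⁻¹ • e = (g.1⁻¹).1 e
      have h1 : (g.1⁻¹).1 (g.1.1 e) = e := inv_apply_self g.1 e
      rw [← hc, map_smul] at h1
      nth_rewrite 1 [← h1]
      rw [smul_smul, inv_mul_cancel₀ hc0, one_smul]) _ h
    simpa [mul_assoc] using h2
  · -- moving the points orthogonal to `e`
    intro w hwe hw
    induction w using Quotient.inductionOn with
    | h w => ?_
    have hwe' : H.h w.1 e = 0 := by
      by_contra h
      exact hw h
    have hfe : H.h f e = 1 := pr.2.2
    have hef : H.h e f = 1 := H.h_comm_one pr.2.2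
    set s := H.h w.1 f
    set k := w.1 - s • e with hk
    have hk0 : k ≠ 0 := by
      intro h0
      have hw1 : w.1 = s • e := sub_eq_zero.1 h0
      refine hwe (Quotient.sound ((sameLine H).symm ⟨s, hw1.symm⟩))
    have hke : H.h k e = 0 := by rw [hk, H.sub_left, H.smul_left, hwe', pr.1, mul_zero, sub_zero]
    have hkf : H.h k f = 0 := by rw [hk, H.sub_left, H.smul_left, hef, mul_one, sub_self]
    have hkk : H.h k k = 0 := by
      rw [hk, H.sub_left, H.sub_right, H.sub_right, H.smul_left, H.smul_left, H.smul_right,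
        H.smul_right, w.2.2, hwe', H.h_comm_zero hwe', pr.1]
      ring
    obtain ⟨x, hx⟩ := H.exists_h_one hk0
    set y := pairProj H e f x
    obtain ⟨hye, hyf⟩ := pairProj_mem pr x
    have hyk : H.h y k = 1 := by
      rw [show y = pairProj H e f x from rfl, pairProj_h x ⟨hke, hkf⟩, hx]
    obtain ⟨t, ht⟩ := H.exists_trace (c := -H.h y y) (by rw [map_neg, H.conj_diag])
    set z := y + t • k with hz
    have hze : H.h z e = 0 := by rw [hz, H.add_left, H.smul_left, hye, hke, mul_zero, add_zero]
    have hzf : H.h z f = 0 := by rw [hz, H.add_left, H.smul_left, hyf, hkf, mul_zero, add_zero]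
    have hzk : H.h z k = 1 := by rw [hz, H.add_left, H.smul_left, hyk, hkk, mul_zero, add_zero]
    have hzz : H.h z z = 0 := by
      rw [hz, H.add_left, H.add_right, H.add_right, H.smul_left, H.smul_left, H.smul_right,
        H.smul_right, hyk, H.h_comm_one hyk, hkk]
      linear_combination ht
    obtain ⟨l, hl0, hl⟩ := H.exists_skew
    have c : RootCond H z 0 l := ⟨hzz, H.zero_left z, by rw [H.zero_left]; linear_combination hl⟩
    have happ : ∀ v, (root H z 0 l c).1 v = v + (l * H.h v z) • z := fun v => by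
      simp [root_apply, H.zero_right]
    refine ⟨π ⟨_, root_mem c⟩, ?_, ?_, fun hfix => ?_⟩
    · exact Quotient.sound ⟨1, by
        show (1 : F) • (root H z 0 l c).1 e = e
        rw [happ, H.h_comm_zero hze]; simp⟩
    · exact Quotient.sound ⟨1, by
        show (1 : F) • (root H z 0 l c).1 f = f
        rw [happ, H.h_comm_zero hzf]; simp⟩
    · obtain ⟨μ, hμ⟩ := (sameLine H).symm (Quotient.exact hfix)
      change μ • w.1 = (root H z 0 l c).1 w.1 at hμ
      have hwz : H.h w.1 z = 1 := by
        rw [show w.1 = k + s • e from (sub_add_cancel _ _).symm, H.add_left, H.smul_left,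
          H.h_comm_one hzk, H.h_comm_zero hze, mul_zero, add_zero]
      rw [happ, hwz, mul_one] at hμ
      have h1 := congrArg (fun v => H.h v z) hμ
      simp only [H.smul_left, H.add_left, hwz, hzz, mul_zero, add_zero, mul_one] at h1
      rw [h1, one_smul, left_eq_add] at hμ
      exact (smul_eq_zero.1 hμ).elim hl0 (fun h0 => zero_ne_one (by rw [← hzk, h0, H.zero_left]))
  · -- separation
    intro a b hae hbe hab ha hb
    induction a using Quotient.inductionOn with
    | h a => ?_
    induction b using Quotient.inductionOn with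
    | h b => ?_
    have ha' : H.h a.1 e = 0 := by
      by_contra h
      exact ha h
    have hb' : H.h b.1 e = 0 := by
      by_contra h
      exact hb h
    have hind : ∀ c : F, c • b.1 ≠ a.1 := fun c hc =>
      hab (Quotient.sound ((sameLine H).symm ⟨c, hc⟩))
    -- a vector orthogonal to `a`, not to `e`, not to `b`
    obtain ⟨x, hxa, hxe, hxb⟩ : ∃ x, H.h x a.1 = 0 ∧ H.h x e ≠ 0 ∧ H.h x b.1 ≠ 0 := by
      obtain ⟨x, hxa, hxe⟩ := H.exists_h_pair (u := a.1) (w := e) pr.left_ne_zero
        (fun c hc => hae (Quotient.sound ((sameLine H).symm ⟨c, hc⟩))) 0 1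
      by_cases hxb : H.h x b.1 = 0
      · obtain ⟨y, hya, hyb⟩ := H.exists_h_pair (u := a.1) (w := b.1) b.2.1 hind 0 1
        by_cases hye : H.h y e = 0
        · exact ⟨x + y, by rw [H.add_left, hxa, hya, add_zero],
            by rw [H.add_left, hxe, hye, add_zero]; exact one_ne_zero,
            by rw [H.add_left, hxb, hyb, zero_add]; exact one_ne_zero⟩
        · exact ⟨y, hya, hye, by rw [hyb]; exact one_ne_zero⟩
      · exact ⟨x, hxa, by rw [hxe]; exact one_ne_zero, hxb⟩
    -- made isotropic along `e`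
    obtain ⟨T, hT⟩ := H.exists_trace (c := -H.h x x) (by rw [map_neg, H.conj_diag])
    have hex : H.h e x ≠ 0 := fun h0 => hxe (H.h_comm_zero h0)
    set t := T / H.h e x with ht
    set w := x + t • e with hw
    have hwa : H.h w a.1 = 0 := by
      rw [hw, H.add_left, H.smul_left, hxa, H.h_comm_zero ha', mul_zero, add_zero]
    have hwb : H.h w b.1 ≠ 0 := by
      rwa [hw, H.add_left, H.smul_left, H.h_comm_zero hb', mul_zero, add_zero]
    have hwe : H.h w e ≠ 0 := by
      rwa [hw, H.add_left, H.smul_left, pr.1, mul_zero, add_zero]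
    have hww : H.h w w = 0 := by
      have h1 : t * H.h e x = T := div_mul_cancel₀ T hex
      have h2 : H.conj t * H.h x e = H.conj T := by rw [← h1, map_mul, H.symm' e x]
      rw [hw, H.add_left, H.add_right, H.add_right, H.smul_left, H.smul_left, H.smul_right,
        H.smul_right, pr.1]
      linear_combination h1 + h2 + hT
    have hw0 : w ≠ 0 := fun h0 => hwe (by rw [h0, H.zero_left])
    refine ⟨upt ⟨w, hw0, hww⟩, hwe, fun hiff => ?_⟩
    have h3 : H.h b.1 w ≠ 0 := fun h0 => hwb (H.h_comm_zero h0)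
    exact (hiff.2 h3) (H.h_comm_zero hwa)

/-- `PSU`. -/
theorem exists_rigidAt_psu {F : Type*} [Field F] [Fintype F] {p : ℕ} [Fact p.Prime] [CharP F p]
    {n q : ℕ} (hF : Fintype.card F = q ^ 2) (hn : 3 ≤ n) (h32 : ¬ (n = 3 ∧ q = 2)) {G : Type*}
    [Group G] [Finite G] (eG : G ≃* Cfsg.PSU n F q) (α : MulAut G) (hα : ¬ p ∣ orderOf α)
    (U : Sylow p G) (hfix : ∀ x ∈ (U : Subgroup G), α x = x) : α = 1 := by
  obtain ⟨e, f, pr⟩ := exists_pair_std hF hn
  have hmap : (Subgroup.center (Cfsg.SU n F q)).map (suEquivRoot hF hn : Cfsg.SU n F q →* _) =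
      Subgroup.center (rootGen (stdHerm hF n)) := by
    ext b
    constructor
    · rintro ⟨a, ha, rfl⟩
      refine Subgroup.mem_center_iff.2 fun b => ?_
      obtain ⟨b', rfl⟩ := (suEquivRoot hF hn).surjective b
      show suEquivRoot hF hn b' * suEquivRoot hF hn a = suEquivRoot hF hn a * suEquivRoot hF hn b'
      rw [← map_mul, ← map_mul, Subgroup.mem_center_iff.1 ha]
    · intro hb
      refine ⟨(suEquivRoot hF hn).symm b,
        Subgroup.mem_center_iff.2 fun a => (suEquivRoot hF hn).injective ?_,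
        (suEquivRoot hF hn).apply_symm_apply b⟩
      rw [map_mul, map_mul, (suEquivRoot hF hn).apply_symm_apply]
      exact Subgroup.mem_center_iff.1 hb _
  obtain ⟨S, hS⟩ := exists_rigidAt_rootGen (p := p) (big_std hF hn) (perfectable_std hF hn h32) pr
  exact eq_one_of_rigidAt (eG.trans (QuotientGroup.congr _ _ (suEquivRoot hF hn) hmap)) hS α hα U hfix

end CfsgLib.CoprimeFix
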